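import Cfsg.Agent.R2.Spec.Gamma.Snd

/-!
# Packet GAMMA (helper28): the case `v ∣ q ^ 2 - 1`
-/

set_option autoImplicit false
set_option linter.unusedSectionVars false

namespace Cfsg.Agent.R2.Spec.Gamma

open Cfsg Cfsg.Agent.H426.LieFam Cfsg.Agent.R2.Spec Cfsg.Agent.R2.Spec.P1 Cfsg.Agent.R2.Spec.F1 Cfsg.Agent.R2.Spec.E

universe u

theorem chkQ_apply {t : Fam} {i j Q q : ℕ} (h : chkQ t i j Q = true) (hq : q < Q) (hq3 : 3 ≤ q) (hq2 : q % 2 = 1) :
    chk t i j q = true ∧ chk t j i q = true := by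
  rw [chkQ, List.all_eq_true] at h
  have h1 := h q (List.mem_range.2 hq)
  rw [Bool.or_eq_true, Bool.or_eq_true, ble_iff, beq_iff, Bool.and_eq_true] at h1
  rcases h1 with (h1 | h1) | h1
  · omega
  · omega
  · exact h1

theorem chk_oodd {n i j q : ℕ} (h : chk (.psp n) i j q = true) : chk (.oodd n) i j q = true := by
  rw [chk] at h ⊢
  rw [ttor_oodd, ttor_oodd]
  exact h

theorem chk_of_finT {t : Fam} {q i j : ℕ} (hq3 : 3 ≤ q) (hq2 : q % 2 = 1) (h5 : Five t) (hp : PairOK t i j)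
    (h : FinT t q) : chk t i j q = true := by
  cases t with
  | psl n =>
    have h9 : 9 ≤ n := h5
    have h1 : ∃ x ∈ tabLO ++ tabLE, n = x.1 + 1 ∧ q < x.2 := by
      rcases h with ⟨x, hx, h1⟩ | ⟨x, hx, h1⟩
      · exact ⟨x, List.mem_append_left _ hx, h1⟩
      · exact ⟨x, List.mem_append_right _ hx, h1⟩
    obtain ⟨x, hx, rfl, h2⟩ := h1
    obtain ⟨h3, h4⟩ := chkQ_apply (List.all_eq_true.1 all_psl x hx) h2 hq3 hq2
    rcases hp with ⟨rfl, h6⟩ | ⟨h6, rfl⟩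
    · obtain rfl : j = x.1 := by omega
      exact h3
    · obtain rfl : i = x.1 := by omega
      exact h4
  | psu n =>
    have h9 : 9 ≤ n := h5
    have h1 : ∃ x ∈ tabLO ++ tabLE, n = x.1 + 1 ∧ q < x.2 := by
      rcases h with ⟨x, hx, h1⟩ | ⟨x, hx, h1⟩
      · exact ⟨x, List.mem_append_left _ hx, h1⟩
      · exact ⟨x, List.mem_append_right _ hx, h1⟩
    obtain ⟨x, hx, rfl, h2⟩ := h1
    obtain ⟨h3, h4⟩ := chkQ_apply (List.all_eq_true.1 all_psu x hx) h2 hq3 hq2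
    rcases hp with ⟨rfl, h6⟩ | ⟨h6, rfl⟩
    · obtain rfl : j = x.1 := by omega
      exact h3
    · obtain rfl : i = x.1 := by omega
      exact h4
  | psp n =>
    obtain ⟨x, hx, rfl, h2⟩ := h
    obtain ⟨h3, h4⟩ := chkQ_apply (List.all_eq_true.1 all_psp x hx) h2 hq3 hq2
    rcases hp with ⟨-, ⟨rfl, rfl⟩ | ⟨rfl, rfl⟩⟩
    · exact h3
    · exact h4
  | oodd n =>
    obtain ⟨x, hx, rfl, h2⟩ := h
    obtain ⟨h3, h4⟩ := chkQ_apply (List.all_eq_true.1 all_psp x hx) h2 hq3 hq2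
    rcases hp with ⟨-, ⟨rfl, rfl⟩ | ⟨rfl, rfl⟩⟩
    · exact chk_oodd h3
    · exact chk_oodd h4
  | oplus n =>
    have h7 : 7 ≤ n := h5
    have ho : ∀ x ∈ tabOI, x.1 % 2 = 1 := by decide
    have he : ∀ x ∈ tabII, x.1 % 2 = 1 := by decide
    rcases h with ⟨x, hx, rfl, h2⟩ | ⟨x, hx, rfl, h2⟩
    · have h1 := ho x hx
      obtain ⟨h3, h4⟩ := chkQ_apply (List.all_eq_true.1 all_oplus x hx) h2 hq3 hq2
      rcases hp with ⟨-, ⟨rfl, rfl⟩ | ⟨rfl, rfl⟩⟩ | ⟨h6, -⟩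
      · exact h3
      · exact h4
      · omega
    · have h1 := he x hx
      obtain ⟨h3, h4⟩ := chkQ_apply (List.all_eq_true.1 all_oplus_even x hx) h2 hq3 hq2
      rcases hp with ⟨h6, -⟩ | ⟨-, ⟨rfl, rfl⟩ | ⟨rfl, rfl⟩⟩
      · omega
      · exact h3
      · exact h4
  | ominus n =>
    obtain ⟨x, hx, rfl, h2⟩ := h
    obtain ⟨h3, h4⟩ := chkQ_apply (List.all_eq_true.1 all_ominus x hx) h2 hq3 hq2
    rcases hp with ⟨rfl, rfl⟩ | ⟨rfl, rfl⟩
    · exact h3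
    · exact h4
  | _ => exact h5.elim

theorem five_rk4 {t : Fam} (h5 : Five t) : 4 ≤ rk t := by
  cases t with
  | psl n => exact le_trans (by norm_num) (show 9 ≤ n from h5)
  | psu n => exact le_trans (by norm_num) (show 9 ≤ n from h5)
  | psp n => exact le_trans (by norm_num) (show 7 ≤ n from h5)
  | oodd n => exact le_trans (by norm_num) (show 7 ≤ n from h5)
  | oplus n => exact le_trans (by norm_num) (show 7 ≤ n from h5)
  | ominus n => exact le_trans (by norm_num) (show 7 ≤ n from h5)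
  | _ => exact h5.elim

variable {t t' : Fam} {p f i j v f' i' j' w H : ℕ} {S : Type u} [Group S]

/-- **Dirty cofactor, `v ∣ q ^ 2 - 1`.** -/
theorem gam_low (h : Duel t p f i j t' v f' i' j' w H S) (h5 : Five t) (hR : RkFive t') (ht : top t' j')
    (hH : ¬ H ∣ outB t' v f') (hlow : cls t (p ^ f) v ≤ 2) :
    ∃ H' : ℕ, ttor t (p ^ f) j = H' * ttor t' (v ^ f') j' ∧ Exo t (p ^ f) t' (v ^ f') i j i' j' H H' := by
  rcases gam h (five_rk4 h5) hR ht hH with h1 | ⟨H', κ, h0, h', e, A, B, c, hD, hin⟩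
  · exact h1
  exfalso
  obtain ⟨hq3, hq2⟩ := f_q h.p_prime h.p_ne h.f_pos
  have h1 := low_tab h hD h5 hlow hin
  obtain ⟨c1, c2, c3⟩ := const_le hq3 h5 h.pair hD.lnum hD.lk
  exact chk_sound h hD hR ht hlow c1 c2 c3 hin (chk_of_finT hq3 hq2 h5 h.pair h1)

end Cfsg.Agent.R2.Spec.Gamma
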