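import Cfsg.Agent.R2.Spec.Gamma.VokComb

/-!
# The class of the characteristic of `S` in the second number (helper27)

* `VOK` : the class of `v` is at most two, or `S` is of type `Ω⁻` (even rank) and `v` is of class three or four;
* `LS.vok` : `VOK` for a duel in the context of `LS`.
-/

set_option autoImplicit false
set_option linter.unusedSectionVars false
set_option linter.unusedVariables false

namespace Cfsg.Agent.R2.Spec.Gamma

open Subgroup Cfsg
open Cfsg.Agent.H426.LieFam Cfsg.Agent.R2.Spec Cfsg.Agent.R2.Spec.P1 Cfsg.Agent.R2.Spec.F1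
open Cfsg.Agent.H420.QR
open Cfsg.Agent.R2.Spec.E (PairOK outB Duel)

universe u w

/-- the class of the characteristic of `S` -/
def VOK (t : Fam) (q v j : ℕ) (t' : Fam) : Prop :=
  cls t q v ≤ 2 ∨ ((∃ m, t' = .ominus m ∧ m % 2 = 0) ∧
    (((∃ n, t = .psl n ∨ t = .psu n) ∧ cls t q v = 3 ∧ 3 ∣ j) ∨
      ((∃ n, (t = .oplus n ∨ t = .ominus n) ∧ n % 4 = 3 ∧ j = 2 * (n - 1)) ∧ cls t q v = 4)))

variable {t : Fam} {p f : ℕ} {L : Type w} [Group L] [Finite L] {G : Type u} [Group G] [Finite G]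
variable {K : Subgroup G} [K.Normal] {S : Subgroup (G ⧸ K)} [S.Normal]
variable {t' : Fam} {v f' : ℕ}

/-- **The class of the characteristic of `S` in the second number.** -/
theorem LS.vok {i j i' j' w H : ℕ} (h : LS t p f L G) (hL : Fam.Is p f L t) (hR : Red G K S) (hF : Frm G K S t' v f')
    (hvp : v ≠ p) (hp2 : p ≠ 2) (h5 : Five t) (hS : BigS t') (hD : Duel t p f i j t' v f' i' j' w H S)
    (hvN : v ∣ ttor t (p ^ f) j) (hA : An t' j') : VOK t (p ^ f) v j t' := by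
  by_cases hk : cls t (p ^ f) v ≤ 2
  · exact Or.inl hk
  right
  have hT : IsoRk t := small_isoRk (Or.inl h5)
  have hn : 5 ≤ rk t := rk_five (Or.inl h5)
  have hq3 := h.q_three hp2
  obtain ⟨hi3, him, hin, hib, hije⟩ := pair_left hD.pair hn
  obtain ⟨hj3, hjm, hjn, hjb, -⟩ := pair_left (pair_symm hD.pair) hn
  have htf := top_facts_all h.cla h.prime hL
  have hv5 := (cls_facts hF.prime (show 3 ≤ cls t (p ^ f) v by omega)).1
  have hvG : v ∣ Nat.card G := by
    rw [card_eq_mul (K := K) (S := S)]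
    exact Dvd.dvd.mul_right hF.vdvd _
  have hvp' : ¬ v ∣ p := fun hd => hvp ((Nat.prime_dvd_prime_iff_eq hF.prime h.prime).1 hd)
  have hvm : mem t (cls t (p ^ f) v) :=
    (h.adj.dvd v hF.prime (by omega) hvp' (by omega)).1 ((h.dvd_iff hF.prime).1 hvG)
  have hvI : In t (p ^ f) (cls t (p ^ f) v) v := ⟨hF.prime, rfl, by omega, hvm⟩
  have hw1 : In t (p ^ f) j w := ⟨hD.w_prime, hD.clsw, hj3, hjm⟩
  have hw1v : w ≠ v := h.iso_ne_v hR hF hS hp2 hvp.symm hT hw1 hjn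
  -- the second class is adjacent to `v`
  have hjv : ¬ na t (cls t (p ^ f) v) j := by
    intro hna
    have hne := hvI.ne hw1 (na_ne hna)
    have hw1N : w ∣ ttor t (p ^ f) j := by
      have hfr := Fact.mk hw1.prime
      obtain ⟨y, hy⟩ := exists_prime_orderOf_dvd_card' (G := L) w ((h.dvd_iff hw1.prime).1 (hw1.dvd h))
      have := htf.ub w hw1.prime (hw1.not_dvd h.fpos)
        (by rw [hw1.cls_eq]; exact top_of_iso h.cla hj3 hjm hjn) y (by rw [hy])
      rw [hw1.cls_eq, hy] at this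
      exact this
    obtain ⟨x, hx⟩ := htf.elt _ (top_of_iso h.cla hj3 hjm hjn)
    have hN0 : ttor t (p ^ f) j ≠ 0 := by rw [← hx]; exact (orderOf_pos x).ne'
    have h1 : ∃ g : G, orderOf g = v * w := exists_dvd_order hN0
      (((Nat.coprime_primes hF.prime hw1.prime).2 hne).mul_dvd_of_dvd_of_dvd hvN hw1N) ((h.ord _).2 ⟨x, hx⟩)
    exact (h.adj_iff hvI hw1 hne).1 h1 hna
  have hlj : cls t (p ^ f) v ≠ j := by
    intro e
    exact h.iso_ne_v hR hF hS hp2 hvp.symm hT (r := v) (i := j) ⟨hF.prime, e, hj3, hjm⟩ hjn rfl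
  -- the type of `S`
  obtain ⟨m, rfl⟩ : ∃ m, t' = .ominus m := by
    refine (h.v_low hL hR hF hS hp2 hvp hT hn hD.pair hD.vM hvN hw1 (by rw [hD.clsw']; exact hD.j'3)
      (by rw [hD.clsw']; exact hA)).resolve_left hk
  have hj' : j' = 2 * m := hA
  have hm4 : 4 ≤ m := hF.is.1
  -- the classes not adjacent to `v`
  have key : ∀ k, Big t k → k ≠ j → na t (cls t (p ^ f) v) k → ∃ z, In t (p ^ f) k z ∧ z ≠ v ∧ z ∣ Nat.card S ∧
      (cls (.ominus m) (v ^ f') z = 2 * (m - 1) ∨ (cls (.ominus m) (v ^ f') z = m - 1 ∧ m % 2 = 0)) := by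
    intro k hkb hkj hkl
    obtain ⟨z, hz⟩ := exists_in h hq3 hkb.1 hkb.2.1
    have hzv : z ≠ v := (hvI.ne hz (na_ne hkl)).symm
    have hna : ¬ ∃ g : G, orderOf g = v * z := fun hg => (h.adj_iff hvI hz hzv.symm).1 hg hkl
    have hg := hF.good_of_na_v hS hz.prime hz.five hzv (hz.dvd h) hna
    obtain ⟨c3, cn⟩ := hF.v_nap hS hz.prime hz.ne_two hzv hg.2 (fun hx => hna (exists_of_S hx))
    have cm := hF.mem_cls hz.prime hz.ne_two hg.2 c3
    refine ⟨z, hz, hzv, hg.2, ?_⟩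
    have hc2 : cls (.ominus m) (v ^ f') z ≠ 2 * m := by
      intro e
      have hzw := hz.ne hw1 hkj
      exact h.not_adj_S (S := S) hz hw1 (na_of_big h.cla hkb ⟨hj3, hjm, hjb⟩ hkj)
        (adj_same' hF.cla hF.prime hF.is hz.prime hw1.prime hz.ne_two hw1.ne_two hzw hzv hw1v hg.2 hD.wS
          (by rw [e, hD.clsw', hj']))
    obtain ⟨c, hc⟩ : ∃ c, c = cls (.ominus m) (v ^ f') z := ⟨_, rfl⟩
    rw [← hc] at c3 cn cm hc2 ⊢
    have cn' : m < eta c + 2 := cn
    have cm' : eta c + 1 ≤ m ∨ c = 2 * m := cm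
    rcases eta_cases c with ⟨h1, h2⟩ | ⟨h1, h2⟩
    · rw [Nat.odd_iff] at h1
      right
      omega
    · left
      omega
  have dist : ∀ {a b za zb : ℕ}, Big t a → Big t b → a ≠ b → In t (p ^ f) a za → In t (p ^ f) b zb → za ≠ v → zb ≠ v →
      za ∣ Nat.card S → zb ∣ Nat.card S → cls (.ominus m) (v ^ f') za ≠ cls (.ominus m) (v ^ f') zb := by
    intro a b za zb ha hb hab hza hzb hzav hzbv h1 h2 e
    exact h.not_adj_S (S := S) hza hzb (na_of_big h.cla ha hb hab)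
      (adj_same' hF.cla hF.prime hF.is hza.prime hzb.prime hza.ne_two hzb.ne_two (hza.ne hzb hab) hzav hzbv h1 h2 e)
  rcases vok_comb h5 hD.pair (show 3 ≤ cls t (p ^ f) v by omega) hvm hlj hjv with
    ⟨a, b, c, ha, hb, hc, haj, hbj, hcj, hab, hac, hbc, na1, na2, na3⟩ | ⟨⟨a, b, ha, hb, haj, hbj, hab, na1, na2⟩, hex⟩
  · exfalso
    obtain ⟨za, a1, a2, a3, a4⟩ := key a ha haj na1
    obtain ⟨zb, b1, b2, b3, b4⟩ := key b hb hbj na2
    obtain ⟨zc, c1, c2, c3, c4⟩ := key c hc hcj na3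
    have d1 := dist ha hb hab a1 b1 a2 b2 a3 b3
    have d2 := dist ha hc hac a1 c1 a2 c2 a3 c3
    have d3 := dist hb hc hbc b1 c1 b2 c2 b3 c3
    omega
  · obtain ⟨za, a1, a2, a3, a4⟩ := key a ha haj na1
    obtain ⟨zb, b1, b2, b3, b4⟩ := key b hb hbj na2
    have d1 := dist ha hb hab a1 b1 a2 b2 a3 b3
    exact ⟨⟨m, rfl, by omega⟩, hex⟩

end Cfsg.Agent.R2.Spec.Gamma
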