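import Cfsg.Agent.R2.Spec.Gamma.EMain
import Cfsg.Agent.R2.Spec.Gamma.Low
import Cfsg.Agent.R2.Spec.Gamma.Vok

/-!
# Packet GAMMA (helper28): conclusion

`gamma_main` : if the second isolated class is isolated in `S` too and the clean cofactor does not divide the outer part,
then the isolated numbers are in an exotic relation (`Exo`).
-/

set_option autoImplicit false
set_option linter.unusedSectionVars false

namespace Cfsg.Agent.R2.Spec.Gamma

open Subgroup Cfsg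
open Cfsg.Agent.H426.LieFam Cfsg.Agent.R2.Spec Cfsg.Agent.R2.Spec.P1 Cfsg.Agent.R2.Spec.F1 Cfsg.Agent.R2.Spec.E
open Cfsg.Agent.H420.QR

universe u w

variable {t : Fam} {p f : ℕ} {L : Type w} [Group L] [Finite L] {G : Type u} [Group G] [Finite G]
variable {K : Subgroup G} [K.Normal] {S : Subgroup (G ⧸ K)} [S.Normal]
variable {t' : Fam} {v f' : ℕ}

/-- **Packet GAMMA.** -/
theorem gamma_main {i j i' j' w H : ℕ} (h : LS t p f L G) (hL : Fam.Is p f L t) (hR : Red G K S)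
    (hF : Frm G K S t' v f') (hvp : v ≠ p) (hp2 : p ≠ 2) (h5 : Five t) (h5' : RkFive t')
    (D : Duel t p f i j t' v f' i' j' w H S) (htop : top t' j') (hH : ¬ H ∣ outB t' v f') :
    ∃ H' : ℕ, ttor t (p ^ f) j = H' * ttor t' (v ^ f') j' ∧ Exo t (p ^ f) t' (v ^ f') i j i' j' H H' := by
  by_cases hlow : cls t (p ^ f) v ≤ 2
  · exact gam_low D h5 h5' htop hH hlow
  have h4 := five_rk4 h5
  rcases gam D h4 h5' htop hH with h1 | ⟨H', κ, h0, h', e, A, B, c, hD, -⟩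
  · exact h1
  have hv5 : 5 ≤ v := (cls_facts D.v_prime (show 3 ≤ cls t (p ^ f) v by omega)).1
  rcases LS.vok h hL hR hF hvp hp2 h5 D.big D hD.vN hD.an with h1 | ⟨⟨m, rfl, hm2⟩, hex⟩
  · exact absurd h1 hlow
  have hm : 6 ≤ m := h5'
  rcases exc_ineq D hD h4 hm hm2 hv5 with h1 | ⟨g1, g2, g3⟩
  · exact ⟨H', hD.eqN, h1⟩
  exfalso
  rcases hex with ⟨⟨n, rfl | rfl⟩, hc, h3⟩ | ⟨⟨n, ht, hn4, hj⟩, hc⟩
  · exact exc_psl_false D hD h5 hm hm2 hc h3 g1 g2 g3
  · exact exc_psu_false D hD h5 hm hm2 hc h3 g1 g2 g3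
  · exact exc_orth_false ht D hD (by rcases ht with rfl | rfl <;> exact h5) hn4 hm hm2 hc hj g1 g2 g3

end Cfsg.Agent.R2.Spec.Gamma
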