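import Cfsg.Agent.R2.Spec.Gamma.Red

/-!
# Packet GAMMA (helper28): the kernel check, `v ∣ q ^ 2 - 1`, definitions
-/

set_option autoImplicit false
set_option linter.unusedSectionVars false

namespace Cfsg.Agent.R2.Spec.Gamma

open Cfsg Cfsg.Agent.H426.LieFam Cfsg.Agent.R2.Spec Cfsg.Agent.R2.Spec.P1 Cfsg.Agent.R2.Spec.F1 Cfsg.Agent.R2.Spec.E

/-- `Q ∣ N` and `N / Q ∣ o * V` is false -/
def tst (N V o Q : ℕ) : Bool := !((N % Q).beq 0 && ((o * V) % (N / Q)).beq 0)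

/-- the five families -/
def tsts (N V v f m : ℕ) : Bool :=
  (Nat.ble m 8 || (tst N V (2 * Nat.gcd m (v ^ f - 1) * f) (ttor (.psl m) (v ^ f) m) &&
    tst N V (2 * Nat.gcd m (v ^ f + 1) * f) (ttor (.psu m) (v ^ f) (m - (m + 1) % 2)))) &&
  tst N V (2 * f) (ttor (.psp m) (v ^ f) (2 * m)) &&
  (Nat.ble m 6 || tst N V (8 * f) (ttor (.oplus m) (v ^ f) (2 * (m - 1)))) &&
  (Nat.ble m 5 || tst N V (8 * f) (ttor (.ominus m) (v ^ f) (2 * m)))

/-- all `m` -/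
def chkM (N V v f L : ℕ) : Bool :=
  (List.range (L / f + 3)).all fun m => Nat.ble m 4 || Nat.blt (8 * N) ((v ^ f) ^ (m - 2)) || tsts N V v f m

/-- all `f` -/
def chkF (N V v L : ℕ) : Bool :=
  (List.range (L / 5 + 1)).all fun f => Nat.beq f 0 || Nat.blt (8 * N) ((v ^ f) ^ 5) || chkM N V v f L

/-- the inequality fails -/
def prn (M C X K V : ℕ) : Bool :=
  Nat.blt ((5832 * (C * K + 16 * X * K * V)) ^ 3 * (C + 16 * X * K) ^ 2) (256 * M ^ 3)

/-- all `v` -/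
def chkV (q M N C X B LM LN : ℕ) : Bool :=
  (List.range (q + 2)).all fun v => Nat.ble v 1 || (!(Nat.beq v 2) && (v % 2).beq 0) || !((Nat.gcd N B) % v).beq 0 ||
    prn M C X (Nat.gcd M (B ^ LM)) (Nat.gcd N (v ^ LN)) || chkF N (Nat.gcd N (v ^ LN)) v LN

def chkP (q M N C X B LM LN : ℕ) : Bool :=
  prn M C X (Nat.gcd M (B ^ LM)) (Nat.gcd N (B ^ LN)) || chkV q M N C X B LM LN

/-- the constants -/
def cC : Fam → ℕ → ℕ
  | .psl n, q => (q + 1) / Nat.gcd n (q - 1)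
  | .psu n, q => (q + 1) / Nat.gcd n (q + 1)
  | .psp _, _ => 1
  | .oodd _, _ => 1
  | .oplus n, q => if n % 2 = 0 then 1 else (q + 1) ^ 2
  | .ominus _, q => (q + 1) ^ 2
  | _, _ => 1

def cX : Fam → ℕ → ℕ
  | .psl _, q => q + 1
  | .psu _, q => q + 1
  | .psp _, _ => 1
  | .oodd _, _ => 1
  | .oplus n, q => if n % 2 = 0 then 1 else q + 1
  | .ominus _, q => q + 1
  | _, _ => 1

def chk (t : Fam) (i j q : ℕ) : Bool :=
  chkP q (ttor t q i) (ttor t q j) (cC t q) (cX t q) (q ^ 2 - 1) (Nat.log2 (8 * ttor t q i)) (Nat.log2 (8 * ttor t q j))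

def chkQ (t : Fam) (i j Q : ℕ) : Bool :=
  (List.range Q).all fun q => Nat.ble q 2 || (q % 2).beq 0 || (chk t i j q && chk t j i q)

end Cfsg.Agent.R2.Spec.Gamma
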