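import Cfsg.Agent.R2.Spec.Gamma.Chk

/-!
# Packet GAMMA (helper28): the kernel check, `v ∣ q ^ 2 - 1`, evaluation
-/

set_option autoImplicit false
set_option maxRecDepth 100000

namespace Cfsg.Agent.R2.Spec.Gamma

open Cfsg Cfsg.Agent.H426.LieFam Cfsg.Agent.R2.Spec

theorem all_psp : (tabII.all fun x => chkQ (.psp x.1) x.1 (2 * x.1) x.2) = true := by decide +kernel

theorem all_oplus_even : (tabII.all fun x => chkQ (.oplus (x.1 + 1)) x.1 (2 * x.1) x.2) = true := by decide +kernel

theorem all_oplus : (tabOI.all fun x => chkQ (.oplus x.1) x.1 (2 * (x.1 - 1)) x.2) = true := by decide +kernel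

theorem all_ominus : (tabOI.all fun x => chkQ (.ominus x.1) (2 * x.1) (2 * (x.1 - 1)) x.2) = true := by decide +kernel

theorem all_psl : ((tabLO ++ tabLE).all fun x => chkQ (.psl (x.1 + 1)) (x.1 + 1) x.1 x.2) = true := by decide +kernel

theorem all_psu : ((tabLO ++ tabLE).all fun x => chkQ (.psu (x.1 + 1)) (x.1 + 1) x.1 x.2) = true := by decide +kernel

end Cfsg.Agent.R2.Spec.Gamma
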