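import Cfsg.Agent.R2.Spec.Gamma.Tab

/-!
# Packet GAMMA (helper28): the exceptional case, the final inequalities
-/

set_option autoImplicit false

namespace Cfsg.Agent.R2.Spec.Gamma

/-- combination of the inequality with the lower bound of `M` -/
theorem fin_exc {q D d M W R A B cw cr : ℕ} (h1 : 3515625 * M ^ 3 ≤ 1769472 * (W ^ 3 * R ^ 2)) (h2 : q ^ D ≤ 8 * d * M)
    (hd : 1 ≤ d) (hW : cw * (d * W) ≤ A) (hR : cr * (d * R) ≤ B) :
    3515625 * (cw ^ 3 * cr ^ 2) * q ^ (3 * D) ≤ 905969664 * (A ^ 3 * B ^ 2) := by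
  have e1 : q ^ (3 * D) ≤ (8 * d * M) ^ 3 := by
    rw [mul_comm 3 D, pow_mul]
    exact Nat.pow_le_pow_left h2 3
  have e2 : (cw * W) ^ 3 * (cr * R) ^ 2 * d ^ 3 ≤ A ^ 3 * B ^ 2 := by
    calc (cw * W) ^ 3 * (cr * R) ^ 2 * d ^ 3 ≤ (cw * W) ^ 3 * (cr * R) ^ 2 * d ^ 5 :=
          Nat.mul_le_mul_left _ (Nat.pow_le_pow_right hd (by norm_num))
      _ = (cw * (d * W)) ^ 3 * (cr * (d * R)) ^ 2 := by ring
      _ ≤ A ^ 3 * B ^ 2 := Nat.mul_le_mul (Nat.pow_le_pow_left hW 3) (Nat.pow_le_pow_left hR 2)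
  calc 3515625 * (cw ^ 3 * cr ^ 2) * q ^ (3 * D) ≤ 3515625 * (cw ^ 3 * cr ^ 2) * (8 * d * M) ^ 3 :=
        Nat.mul_le_mul_left _ e1
    _ = (512 * (cw ^ 3 * cr ^ 2 * d ^ 3)) * (3515625 * M ^ 3) := by ring
    _ ≤ (512 * (cw ^ 3 * cr ^ 2 * d ^ 3)) * (1769472 * (W ^ 3 * R ^ 2)) := Nat.mul_le_mul_left _ h1
    _ = 905969664 * ((cw * W) ^ 3 * (cr * R) ^ 2 * d ^ 3) := by ring
    _ ≤ _ := Nat.mul_le_mul_left _ e2

/-! ### linear and unitary groups, `n = r + 1 ≥ 10` -/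

def ptE (r q : ℕ) : Prop :=
  905969664 * ((r * (8 * r + 9) * (q + 1) ^ 5) ^ 3 * ((29 * r + 1) * (q + 1) ^ 3) ^ 2) < 112500000 * q ^ (3 * r)

theorem caseE {n Q q : ℕ}
    (h : 905969664 * ((n * (8 * n + 9)) ^ 3 * (29 * n + 1) ^ 2) * (Q + 1) ^ 21 < 112500000 * Q ^ (3 * n))
    (hb : 21 ≤ 3 * n) (hQ : 1 ≤ Q) (hq : Q ≤ q) : ptE n q := by
  have h1 := mono_q hb hQ h hq
  unfold ptE
  calc _ = 905969664 * ((n * (8 * n + 9)) ^ 3 * (29 * n + 1) ^ 2) * (q + 1) ^ 21 := by ring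
    _ < _ := h1

theorem stepE {n q : ℕ} (hn : 7 ≤ n) (hq : 3 ≤ q) (h : ptE n q) : ptE (n + 2) q := by
  refine step_n (e := 3 * n) hq h ?_ ?_
  · calc (n + 2) * (8 * (n + 2) + 9) * (q + 1) ^ 5 ≤ (2 * (n * (8 * n + 9))) * (q + 1) ^ 5 :=
        Nat.mul_le_mul_right _ (by nlinarith)
      _ = _ := by ring
  · calc (29 * (n + 2) + 1) * (q + 1) ^ 3 ≤ (2 * (29 * n + 1)) * (q + 1) ^ 3 := Nat.mul_le_mul_right _ (by omega)
      _ = _ := by ring

def tabE : List (ℕ × ℕ) :=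
  [(9, 249), (10, 46), (11, 20), (12, 12), (13, 9), (14, 7), (15, 6), (16, 5), (17, 5), (18, 4), (19, 4), (20, 4)]

theorem levE {n q : ℕ} (hn : 9 ≤ n) (hq : 3 ≤ q) : (∃ x ∈ tabE, n = x.1 ∧ q < x.2) ∨ ptE n q := by
  rcases Nat.lt_or_ge n 21 with h | h
  · have key : ∀ Q : ℕ, (n, Q) ∈ tabE → (Q ≤ q → ptE n q) → (∃ x ∈ tabE, n = x.1 ∧ q < x.2) ∨ ptE n q := by
      intro Q hQ hP
      rcases Nat.lt_or_ge q Q with h1 | h1
      · exact Or.inl ⟨_, hQ, rfl, h1⟩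
      · exact Or.inr (hP h1)
    interval_cases n
    · exact key 249 (by decide) (caseE (by norm_num) (by norm_num) (by norm_num))
    · exact key 46 (by decide) (caseE (by norm_num) (by norm_num) (by norm_num))
    · exact key 20 (by decide) (caseE (by norm_num) (by norm_num) (by norm_num))
    · exact key 12 (by decide) (caseE (by norm_num) (by norm_num) (by norm_num))
    · exact key 9 (by decide) (caseE (by norm_num) (by norm_num) (by norm_num))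
    · exact key 7 (by decide) (caseE (by norm_num) (by norm_num) (by norm_num))
    · exact key 6 (by decide) (caseE (by norm_num) (by norm_num) (by norm_num))
    · exact key 5 (by decide) (caseE (by norm_num) (by norm_num) (by norm_num))
    · exact key 5 (by decide) (caseE (by norm_num) (by norm_num) (by norm_num))
    · exact key 4 (by decide) (caseE (by norm_num) (by norm_num) (by norm_num))
    · exact key 4 (by decide) (caseE (by norm_num) (by norm_num) (by norm_num))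
    · exact key 4 (by decide) (caseE (by norm_num) (by norm_num) (by norm_num))
  · right
    have hind : ∀ s, ptE (2 * s + 21) q ∧ ptE (2 * s + 22) q := by
      intro s
      induction s with
      | zero => exact ⟨caseE (by norm_num) (by norm_num) (by norm_num) hq, caseE (by norm_num) (by norm_num) (by norm_num) hq⟩
      | succ s ih => exact ⟨stepE (by omega) hq ih.1, stepE (by omega) hq ih.2⟩
    rcases Nat.mod_two_eq_zero_or_one n with h2 | h2
    · have := (hind ((n - 22) / 2)).2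
      rwa [show 2 * ((n - 22) / 2) + 22 = n by omega] at this
    · have := (hind ((n - 21) / 2)).1
      rwa [show 2 * ((n - 21) / 2) + 21 = n by omega] at this

/-! ### orthogonal groups -/

def ptEO (n q : ℕ) : Prop :=
  905969664 * ((24 * n ^ 2 * (q + 1) ^ 4) ^ 3 * ((29 * n + 2) * (q + 1) ^ 2) ^ 2) < 7200000000 * q ^ (3 * n)

theorem caseEO {n Q q : ℕ}
    (h : 905969664 * ((24 * n ^ 2) ^ 3 * (29 * n + 2) ^ 2) * (Q + 1) ^ 16 < 7200000000 * Q ^ (3 * n))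
    (hb : 16 ≤ 3 * n) (hQ : 1 ≤ Q) (hq : Q ≤ q) : ptEO n q := by
  have h1 := mono_q hb hQ h hq
  unfold ptEO
  calc _ = 905969664 * ((24 * n ^ 2) ^ 3 * (29 * n + 2) ^ 2) * (q + 1) ^ 16 := by ring
    _ < _ := h1

theorem stepEO {n q : ℕ} (hn : 7 ≤ n) (hq : 3 ≤ q) (h : ptEO n q) : ptEO (n + 2) q := by
  refine step_n (e := 3 * n) hq h ?_ ?_
  · calc 24 * (n + 2) ^ 2 * (q + 1) ^ 4 ≤ (2 * (24 * n ^ 2)) * (q + 1) ^ 4 := Nat.mul_le_mul_right _ (by nlinarith)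
      _ = _ := by ring
  · calc (29 * (n + 2) + 2) * (q + 1) ^ 2 ≤ (2 * (29 * n + 2)) * (q + 1) ^ 2 := Nat.mul_le_mul_right _ (by omega)
      _ = _ := by ring

def tabEO : List (ℕ × ℕ) := [(7, 390), (9, 20), (11, 8), (13, 6), (15, 4), (17, 4)]

theorem levEO {n q : ℕ} (hn : 7 ≤ n) (hn2 : n % 2 = 1) (hq : 3 ≤ q) : (∃ x ∈ tabEO, n = x.1 ∧ q < x.2) ∨ ptEO n q := by
  rcases Nat.lt_or_ge n 19 with h | h
  · have key : ∀ Q : ℕ, (n, Q) ∈ tabEO → (Q ≤ q → ptEO n q) → (∃ x ∈ tabEO, n = x.1 ∧ q < x.2) ∨ ptEO n q := by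
      intro Q hQ hP
      rcases Nat.lt_or_ge q Q with h1 | h1
      · exact Or.inl ⟨_, hQ, rfl, h1⟩
      · exact Or.inr (hP h1)
    obtain ⟨r, rfl⟩ : ∃ r, n = 2 * r + 7 := ⟨(n - 7) / 2, by omega⟩
    have hr : r < 6 := by omega
    interval_cases r
    · exact key 390 (by decide) (caseEO (by norm_num) (by norm_num) (by norm_num))
    · exact key 20 (by decide) (caseEO (by norm_num) (by norm_num) (by norm_num))
    · exact key 8 (by decide) (caseEO (by norm_num) (by norm_num) (by norm_num))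
    · exact key 6 (by decide) (caseEO (by norm_num) (by norm_num) (by norm_num))
    · exact key 4 (by decide) (caseEO (by norm_num) (by norm_num) (by norm_num))
    · exact key 4 (by decide) (caseEO (by norm_num) (by norm_num) (by norm_num))
  · right
    obtain ⟨r, rfl⟩ : ∃ r, n = 2 * r + 19 := ⟨(n - 19) / 2, by omega⟩
    clear hn hn2 h
    induction r with
    | zero => exact caseEO (by norm_num) (by norm_num) (by norm_num) hq
    | succ r ih => exact stepEO (by omega) hq ih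

/-! ### conclusions -/

theorem endE {r q d κ V M A B C : ℕ} (hr : 9 ≤ r) (hq : 3 ≤ q) (hd : 1 ≤ d) (hC : d * C ≤ q + 1)
    (hA : A ≤ q + 1) (hB : B ≤ q + 1) (hκ : 2 * (d * κ) ≤ (q + 1) ^ 2 * r) (hV : 3 * V ≤ (q + 1) ^ 2 * (r + 1))
    (h1 : 3515625 * M ^ 3 ≤ 1769472 * ((C * κ + 24 * (B * κ * V)) ^ 3 * (C + 29 * (A * κ)) ^ 2))
    (h2 : q ^ r ≤ 8 * d * M) : ∃ x ∈ tabE, r = x.1 ∧ q < x.2 := by
  have hC1 : C ≤ q + 1 := (Nat.le_mul_of_pos_left C hd).trans hC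
  have hW : 2 * (d * (C * κ + 24 * (B * κ * V))) ≤ r * (8 * r + 9) * (q + 1) ^ 5 := by
    have e1 : 3 * (2 * (d * (C * κ + 24 * (B * κ * V)))) ≤ 3 * (r * (8 * r + 9) * (q + 1) ^ 5) := by
      calc 3 * (2 * (d * (C * κ + 24 * (B * κ * V)))) = 3 * (C * (2 * (d * κ))) + 24 * (B * ((2 * (d * κ)) * (3 * V))) := by
            ring
        _ ≤ 3 * ((q + 1) * ((q + 1) ^ 2 * r)) + 24 * ((q + 1) * (((q + 1) ^ 2 * r) * ((q + 1) ^ 2 * (r + 1)))) :=
          Nat.add_le_add (Nat.mul_le_mul_left _ (Nat.mul_le_mul hC1 hκ))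
            (Nat.mul_le_mul_left _ (Nat.mul_le_mul hB (Nat.mul_le_mul hκ hV)))
        _ = 3 * r * (q + 1) ^ 3 + 24 * (r * (r + 1)) * (q + 1) ^ 5 := by ring
        _ ≤ 3 * r * (q + 1) ^ 5 + 24 * (r * (r + 1)) * (q + 1) ^ 5 :=
          Nat.add_le_add_right (Nat.mul_le_mul_left _ (Nat.pow_le_pow_right (by omega) (by norm_num))) _
        _ = _ := by ring
    omega
  have hR : 2 * (d * (C + 29 * (A * κ))) ≤ (29 * r + 1) * (q + 1) ^ 3 := by
    have e2 : 2 * (q + 1) ≤ (q + 1) ^ 3 := by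
      calc 2 * (q + 1) ≤ (q + 1) ^ 2 * (q + 1) := Nat.mul_le_mul_right _ (by nlinarith)
        _ = _ := by ring
    calc 2 * (d * (C + 29 * (A * κ))) = 2 * (d * C) + 29 * (A * (2 * (d * κ))) := by ring
      _ ≤ (q + 1) ^ 3 + 29 * ((q + 1) * ((q + 1) ^ 2 * r)) :=
        Nat.add_le_add ((Nat.mul_le_mul_left _ hC).trans e2) (Nat.mul_le_mul_left _ (Nat.mul_le_mul hA hκ))
      _ = _ := by ring
  have h3 := fin_exc h1 h2 hd hW hR
  rcases levE hr hq with h4 | h4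
  · exact h4
  · exfalso
    unfold ptE at h4
    norm_num at h3
    omega

theorem endEO {n q κ V M A B C : ℕ} (hn : 7 ≤ n) (hn2 : n % 2 = 1) (hq : 3 ≤ q) (hC : C ≤ (q + 1) ^ 2)
    (hA : A ≤ q + 1) (hB : B ≤ q + 1) (hκ : 2 * κ ≤ (q + 1) * n) (hV : 4 * V ≤ (q + 1) ^ 2 * (n - 1))
    (h1 : 3515625 * M ^ 3 ≤ 1769472 * ((C * κ + 24 * (B * κ * V)) ^ 3 * (C + 29 * (A * κ)) ^ 2))
    (h2 : q ^ n ≤ 8 * 1 * M) : ∃ x ∈ tabEO, n = x.1 ∧ q < x.2 := by
  obtain ⟨r, rfl⟩ : ∃ r, n = r + 1 := ⟨n - 1, by omega⟩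
  rw [Nat.add_sub_cancel] at hV
  have hW : 8 * (1 * (C * κ + 24 * (B * κ * V))) ≤ 24 * (r + 1) ^ 2 * (q + 1) ^ 4 := by
    calc 8 * (1 * (C * κ + 24 * (B * κ * V))) = 4 * (C * (2 * κ)) + 24 * (B * ((2 * κ) * (4 * V))) := by ring
      _ ≤ 4 * ((q + 1) ^ 2 * ((q + 1) * (r + 1))) + 24 * ((q + 1) * (((q + 1) * (r + 1)) * ((q + 1) ^ 2 * r))) :=
        Nat.add_le_add (Nat.mul_le_mul_left _ (Nat.mul_le_mul hC hκ))
          (Nat.mul_le_mul_left _ (Nat.mul_le_mul hB (Nat.mul_le_mul hκ hV)))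
      _ = (4 * (r + 1) * (q + 1) ^ 3) * 1 + 24 * ((r + 1) * r) * (q + 1) ^ 4 := by ring
      _ ≤ (4 * (r + 1) * (q + 1) ^ 3) * (q + 1) + 24 * ((r + 1) * r) * (q + 1) ^ 4 :=
        Nat.add_le_add_right (Nat.mul_le_mul_left _ (by omega)) _
      _ ≤ (24 * (r + 1) * (q + 1) ^ 3) * (q + 1) + 24 * ((r + 1) * r) * (q + 1) ^ 4 := by
        gcongr
        norm_num
      _ = _ := by ring
  have hR : 2 * (1 * (C + 29 * (A * κ))) ≤ (29 * (r + 1) + 2) * (q + 1) ^ 2 := by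
    calc 2 * (1 * (C + 29 * (A * κ))) = 2 * C + 29 * (A * (2 * κ)) := by ring
      _ ≤ 2 * (q + 1) ^ 2 + 29 * ((q + 1) * ((q + 1) * (r + 1))) :=
        Nat.add_le_add (Nat.mul_le_mul_left _ hC) (Nat.mul_le_mul_left _ (Nat.mul_le_mul hA hκ))
      _ = _ := by ring
  have h3 := fin_exc h1 h2 le_rfl hW hR
  rcases levEO hn hn2 hq with h4 | h4
  · exact h4
  · exfalso
    unfold ptEO at h4
    norm_num at h3
    omega

/-! ### rank 9 -/

theorem f_small {f : ℕ} (hf : 4 ≤ f) : 75286859 * f ^ 6 < 7 ^ (4 * f) := by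
  induction f, hf using Nat.le_induction with
  | base => norm_num
  | succ k hk ih =>
    have h1 : (k + 1) ^ 6 ≤ 64 * k ^ 6 := by
      calc (k + 1) ^ 6 ≤ (2 * k) ^ 6 := Nat.pow_le_pow_left (by omega) 6
        _ = _ := by ring
    have h2 : 7 ^ (4 * (k + 1)) = 2401 * 7 ^ (4 * k) := by
      rw [show 4 * (k + 1) = 4 + 4 * k by ring, pow_add]
      norm_num
    rw [h2]
    omega

theorem endE9 {q d κ V M B C v f : ℕ} (hq : 3 ≤ q) (hd : 1 ≤ d) (hf : 1 ≤ f) (hv : 7 ≤ v) (hC : d * C ≤ q + 1)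
    (hBV : B * V ≤ q ^ 3 + 1) (hκ : 2 * (d * κ) ≤ (q ^ 2 - 1) * 8) (hM : M * d = q ^ 8 - 1)
    (h1 : 5 * (v ^ f) ^ 4 ≤ 2 * (f * (C + 29 * (q * κ))))
    (h2 : 25 * M ≤ 48 * (f ^ 2 * (v ^ f) ^ 2 * (C * κ + 24 * (B * κ * V)))) : q < 734 ∧ v < 94 := by
  have hC1 : C ≤ q + 1 := (Nat.le_mul_of_pos_left C hd).trans hC
  obtain ⟨u, hu⟩ : ∃ u, u = v ^ f := ⟨_, rfl⟩
  rw [← hu] at h1 h2
  have hq1 := Nat.one_le_pow 2 q (by omega)
  have hκ' : d * κ + 4 ≤ 4 * q ^ 2 := by omega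
  -- first
  have e1 : 5 * u ^ 4 ≤ 232 * (f * q ^ 3) := by
    calc 5 * u ^ 4 ≤ d * (5 * u ^ 4) := Nat.le_mul_of_pos_left _ hd
      _ ≤ d * (2 * (f * (C + 29 * (q * κ)))) := Nat.mul_le_mul_left _ h1
      _ = 2 * f * (d * C + 29 * (q * (d * κ))) := by ring
      _ ≤ 2 * f * (116 * q ^ 3) := by
        refine Nat.mul_le_mul_left _ ?_
        have : q * (d * κ + 4) ≤ q * (4 * q ^ 2) := Nat.mul_le_mul_left _ hκ'
        have e3 : q * (4 * q ^ 2) = 4 * q ^ 3 := by ring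
        have e4 : q * (d * κ + 4) = q * (d * κ) + 4 * q := by ring
        omega
      _ = _ := by ring
  -- second
  have e2 : 25 * (q ^ 8 - 1) ≤ 4656 * (f ^ 2 * u ^ 2 * q ^ 5) := by
    have e3 : (d * κ) * (C + 24 * (B * V)) ≤ 97 * q ^ 5 := by
      have e4 : C + 24 * (B * V) ≤ 24 * q ^ 3 + q + 25 := by omega
      calc (d * κ) * (C + 24 * (B * V)) ≤ (4 * q ^ 2 - 4) * (24 * q ^ 3 + q + 25) := Nat.mul_le_mul (by omega) e4
        _ ≤ 97 * q ^ 5 := by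
          rcases Nat.lt_or_ge q 5 with h5 | h5
          · interval_cases q <;> norm_num
          · calc (4 * q ^ 2 - 4) * (24 * q ^ 3 + q + 25) ≤ (4 * q ^ 2) * (24 * q ^ 3 + q + 25) :=
                Nat.mul_le_mul_right _ (Nat.sub_le _ _)
              _ = 96 * q ^ 5 + q ^ 2 * (4 * q + 100) := by ring
              _ ≤ 96 * q ^ 5 + q ^ 2 * q ^ 3 := by
                refine Nat.add_le_add_left (Nat.mul_le_mul_left _ ?_) _
                nlinarith [Nat.mul_le_mul h5 h5, Nat.pow_le_pow_left h5 3]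
              _ = _ := by ring
    calc 25 * (q ^ 8 - 1) = d * (25 * M) := by rw [← hM]; ring
      _ ≤ d * (48 * (f ^ 2 * u ^ 2 * (C * κ + 24 * (B * κ * V)))) := Nat.mul_le_mul_left _ h2
      _ = 48 * (f ^ 2 * u ^ 2) * ((d * κ) * (C + 24 * (B * V))) := by ring
      _ ≤ 48 * (f ^ 2 * u ^ 2) * (97 * q ^ 5) := Nat.mul_le_mul_left _ e3
      _ = _ := by ring
  -- third
  have e3 : q ^ 3 ≤ 187 * (f ^ 2 * u ^ 2) := by
    by_contra hcon
    push Not at hcon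
    have h5 : (187 * (f ^ 2 * u ^ 2) + 1) * (25 * q ^ 5) ≤ q ^ 3 * (25 * q ^ 5) := Nat.mul_le_mul_right _ hcon
    have h6 : q ^ 3 * (25 * q ^ 5) = 25 * q ^ 8 := by ring
    have h7 : (187 * (f ^ 2 * u ^ 2) + 1) * (25 * q ^ 5) = 4675 * (f ^ 2 * u ^ 2 * q ^ 5) + 25 * q ^ 5 := by ring
    have h8 : 25 * q ^ 5 ≥ 25 * 3 ^ 5 := Nat.mul_le_mul_left _ (Nat.pow_le_pow_left hq 5)
    norm_num at h8
    have h9 : 0 < q ^ 5 := by positivity
    omega
  have e4 : 5 * q ^ 3 ≤ 8112808 * f ^ 5 := by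
    have h5 : (5 * q ^ 3) * q ^ 3 ≤ (8112808 * f ^ 5) * q ^ 3 := by
      calc (5 * q ^ 3) * q ^ 3 ≤ (5 * (187 * (f ^ 2 * u ^ 2))) * (187 * (f ^ 2 * u ^ 2)) :=
            Nat.mul_le_mul (Nat.mul_le_mul_left _ e3) e3
        _ = 34969 * f ^ 4 * (5 * u ^ 4) := by ring
        _ ≤ 34969 * f ^ 4 * (232 * (f * q ^ 3)) := Nat.mul_le_mul_left _ e1
        _ = _ := by ring
    exact Nat.le_of_mul_le_mul_right h5 (by positivity)
  have e5 : u ^ 4 ≤ 75286859 * f ^ 6 := by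
    have h5 : 25 * u ^ 4 ≤ 25 * (75286859 * f ^ 6) := by
      calc 25 * u ^ 4 = 5 * (5 * u ^ 4) := by ring
        _ ≤ 5 * (232 * (f * q ^ 3)) := Nat.mul_le_mul_left _ e1
        _ = 232 * f * (5 * q ^ 3) := by ring
        _ ≤ 232 * f * (8112808 * f ^ 5) := Nat.mul_le_mul_left _ e4
        _ = 1882171456 * f ^ 6 := by ring
        _ ≤ 25 * (75286859 * f ^ 6) := by omega
    omega
  have e6 : f < 4 := by
    by_contra hcon
    have h5 := f_small (f := f) (by omega)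
    have h6 : 7 ^ (4 * f) ≤ u ^ 4 := by
      rw [hu, mul_comm 4 f, pow_mul]
      exact Nat.pow_le_pow_left (Nat.pow_le_pow_left hv f) 4
    omega
  have cub : ∀ a, a ^ 3 ≤ q ^ 3 → 5 * a ^ 3 ≤ 8112808 * f ^ 5 := fun a h => by omega
  interval_cases f
  · rw [pow_one] at hu
    subst hu
    constructor
    · by_contra hcon
      have := Nat.pow_le_pow_left (show 734 ≤ q by omega) 3
      norm_num at this e4
      omega
    · by_contra hcon
      have := Nat.pow_le_pow_left (show 94 ≤ u by omega) 4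
      norm_num at this e5
      omega
  · constructor
    · by_contra hcon
      have := Nat.pow_le_pow_left (show 734 ≤ q by omega) 3
      norm_num at this e4
      omega
    · by_contra hcon
      have := Nat.pow_le_pow_left (Nat.pow_le_pow_left (show 94 ≤ v by omega) 2) 4
      rw [← hu] at this
      norm_num at this e5
      omega
  · constructor
    · by_contra hcon
      have := Nat.pow_le_pow_left (show 734 ≤ q by omega) 3
      norm_num at this e4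
      omega
    · by_contra hcon
      have := Nat.pow_le_pow_left (Nat.pow_le_pow_left (show 94 ≤ v by omega) 3) 4
      rw [← hu] at this
      norm_num at this e5
      omega

end Cfsg.Agent.R2.Spec.Gamma
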