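import Cfsg.Agent.R2.Spec.Gamma.Snd
import Cfsg.Agent.R2.Spec.Gamma.ETab

/-!
# Packet GAMMA (helper28): the exceptional case, kernel check and soundness
-/

set_option autoImplicit false
set_option linter.unusedSectionVars false

namespace Cfsg.Agent.R2.Spec.Gamma

open Cfsg Cfsg.Agent.H426.LieFam Cfsg.Agent.R2.Spec Cfsg.Agent.R2.Spec.P1 Cfsg.Agent.R2.Spec.F1 Cfsg.Agent.R2.Spec.E

/-- all even `m ≥ 6` -/
def ecM (N V v f L : ℕ) : Bool :=
  (List.range (L / f + 1)).all fun m => Nat.ble m 5 || (m % 2).beq 1 || Nat.blt (8 * N) ((v ^ f) ^ m) ||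
    tst N V (8 * f) (ttor (.ominus m) (v ^ f) (2 * m))

/-- all `f` -/
def ecF (N V v L : ℕ) : Bool :=
  (List.range (L / 6 + 1)).all fun f => Nat.beq f 0 || Nat.blt (8 * N) ((v ^ f) ^ 6) || ecM N V v f L

/-- all `v = st k + 1`, `v ∣ Phi` -/
def ecV (N Phi st K0 L : ℕ) : Bool :=
  (List.range K0).all fun k => Nat.beq k 0 || !(Phi % (st * k + 1)).beq 0 ||
    ecF N (Nat.gcd N ((st * k + 1) ^ L)) (st * k + 1) L

/-- all `v` -/
def ecA (N Phi st : ℕ) : Bool := ecV N Phi st (2 ^ (Nat.log2 (8 * N) / 6 + 1) / st + 1) (Nat.log2 (8 * N))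

/-- rank nine -/
def ecNine (t : Fam) (Phi : ℕ → ℕ) : Bool :=
  (List.range 734).all fun q => Nat.ble q 2 || (q % 2).beq 0 || ecV (ttor t q 9) (Phi q) 6 16 (Nat.log2 (8 * ttor t q 9))

def ecQ (t : Fam) (j st : ℕ) (Phi : ℕ → ℕ) (Q : ℕ) : Bool :=
  (List.range Q).all fun q => Nat.ble q 2 || (q % 2).beq 0 || ecA (ttor t q j) (Phi q) st

set_option maxRecDepth 100000 in
theorem nine_psl : ecNine (.psl 9) (fun q => q ^ 2 + q + 1) = true := by decide +kernel

set_option maxRecDepth 100000 in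
theorem nine_psu : ecNine (.psu 9) (fun q => q ^ 2 - q + 1) = true := by decide +kernel

set_option maxRecDepth 100000 in
theorem exc_psl : (tabE.all fun x => (!(x.1 % 3).beq 0 || ecQ (.psl (x.1 + 1)) x.1 6 (fun q => q ^ 2 + q + 1) x.2) &&
    (!((x.1 + 1) % 3).beq 0 || ecQ (.psl (x.1 + 1)) (x.1 + 1) 6 (fun q => q ^ 2 + q + 1) x.2)) = true := by
  decide +kernel

set_option maxRecDepth 100000 in
theorem exc_psu : (tabE.all fun x => (!(x.1 % 3).beq 0 || ecQ (.psu (x.1 + 1)) x.1 6 (fun q => q ^ 2 - q + 1) x.2) &&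
    (!((x.1 + 1) % 3).beq 0 || ecQ (.psu (x.1 + 1)) (x.1 + 1) 6 (fun q => q ^ 2 - q + 1) x.2)) = true := by
  decide +kernel

set_option maxRecDepth 100000 in
theorem exc_oplus : (tabEO.all fun x => !(x.1 % 4).beq 3 ||
    ecQ (.oplus x.1) (2 * (x.1 - 1)) 4 (fun q => q ^ 2 + 1) x.2) = true := by decide +kernel

set_option maxRecDepth 100000 in
theorem exc_ominus : (tabEO.all fun x => !(x.1 % 4).beq 3 ||
    ecQ (.ominus x.1) (2 * (x.1 - 1)) 4 (fun q => q ^ 2 + 1) x.2) = true := by decide +kernel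

end Cfsg.Agent.R2.Spec.Gamma
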