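import Cfsg.Agent.R2.Spec.Gamma.Red

/-!
# Packet GAMMA (helper28): the exceptional case, `S = PΩ^-_{2m}(u)`, `m` even, `u` odd
-/

set_option autoImplicit false
set_option linter.unusedSectionVars false

namespace Cfsg.Agent.R2.Spec.Gamma

open Cfsg Cfsg.Agent.H426.LieFam Cfsg.Agent.R2.Spec Cfsg.Agent.R2.Spec.P1 Cfsg.Agent.R2.Spec.F1 Cfsg.Agent.R2.Spec.E

universe u

/-- the relation of the class `2 m` with the other isolated classes, `m` even, `u` odd -/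
theorem snum_minus {m q i' : ℕ} (hn : 4 ≤ m) (hm2 : m % 2 = 0) (hq : 3 ≤ q) (hq2 : q % 2 = 1)
    (hi : top (.ominus m) i') (hne : i' ≠ 2 * m) :
    ∃ (s' a' b' c' : ℤ), SNum (.ominus m) q i' (2 * m) 2 2 s' a' b' c' ∧ a' = q ∧ 1 ≤ b' ∧ b' ≤ q + 1 ∧
      2 * |c'| ≤ (q + 1) ^ 2 := by
  have hg : Nat.gcd 4 (q ^ m + 1) = 2 := by
    have h1 := mod_four_of_even (k := m) hq2 hm2
    have h2 : Nat.gcd 4 (q ^ m + 1) ∣ 4 := Nat.gcd_dvd_left _ _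
    have h3 : Nat.gcd 4 (q ^ m + 1) ∣ q ^ m + 1 := Nat.gcd_dvd_right _ _
    have h4 := gcd_four_ge (m := q ^ m + 1) (by omega)
    have h5 := Nat.le_of_dvd (by norm_num) h2
    obtain ⟨g, hg⟩ : ∃ g, g = Nat.gcd 4 (q ^ m + 1) := ⟨_, rfl⟩
    rw [← hg] at h2 h3 h4 h5 ⊢
    interval_cases g
    · rfl
    · omega
    · omega
  have hi' : i' = 2 * m ∨ i' = 2 * (m - 1) ∨ (i' = m - 1 ∧ m % 2 = 0) := hi
  obtain ⟨e, he, h1⟩ := lin_ominus (n := m) (q := q) (by omega) (by omega)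
  obtain ⟨e2, he2, h2⟩ := lin_ominus' (n := m) (q := q) (by omega) (by omega)
  have hcast : ((q - 1 : ℕ) : ℤ) = (q : ℤ) + -1 := by push_cast [Nat.cast_sub (show 1 ≤ q by omega)]; ring
  have hS1 : SNum (.ominus m) q (2 * m) (2 * (m - 1)) 2 (Nat.gcd 4 (q ^ m + 1)) (-1) (q + -1) q (-(e : ℤ)) := by
    refine ⟨.D1 (-1) (Or.inr rfl) _ (Nat.gcd_dvd_left _ _) _ ?_, h1.eq, fun h => absurd h (by norm_num),
      fun h => absurd h (by norm_num), fun _ _ => ⟨m, rfl, fun _ => ⟨rfl, rfl⟩⟩,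
      fun h => by obtain ⟨m, h | h⟩ := h <;> exact Fam.noConfusion h,
      fun h => by obtain ⟨m, h | h | ⟨h, -⟩⟩ := h <;> exact Fam.noConfusion h⟩
    rw [abs_neg, abs_natCast', ← hcast]
    exact_mod_cast (by rw [mul_comm]; exact he)
  have hS2 : SNum (.ominus m) q (2 * m) (m - 1) 2 (Nat.gcd 4 (q ^ m + 1)) 1 (q + 1) q e2 := by
    refine ⟨.D1 1 (Or.inl rfl) _ (Nat.gcd_dvd_left _ _) _ ?_, h2, fun h => absurd h (by norm_num),
      fun h => absurd h (by norm_num), fun _ h => absurd h (by norm_num), fun h => by obtain ⟨m, h | h⟩ := h <;> exact Fam.noConfusion h,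
      fun h => by obtain ⟨m, h | h | ⟨h, -⟩⟩ := h <;> exact Fam.noConfusion h⟩
    rw [abs_natCast']
    exact_mod_cast (by rw [mul_comm]; exact he2)
  rw [hg] at hS1 hS2 he he2
  rcases hi' with rfl | rfl | ⟨rfl, -⟩
  · exact absurd rfl hne
  · obtain ⟨s', h4⟩ := hS1.swap (fun _ _ h => by omega)
    refine ⟨s', _, _, _, h4, rfl, by omega, by omega, ?_⟩
    rw [neg_neg, abs_natCast']
    have h5 : e * 2 ≤ (q + 1) ^ 2 := by
      rw [he]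
      exact Nat.pow_le_pow_left (by omega) 2
    have h6 : ((e * 2 : ℕ) : ℤ) ≤ (((q + 1) ^ 2 : ℕ) : ℤ) := by exact_mod_cast h5
    push_cast at h6
    linarith
  · obtain ⟨s', h4⟩ := hS2.swap (fun _ h => absurd h (by norm_num))
    refine ⟨s', _, _, _, h4, rfl, by omega, by omega, ?_⟩
    rw [abs_neg, abs_natCast']
    have h6 : ((e2 * 2 : ℕ) : ℤ) = (((q + 1) ^ 2 : ℕ) : ℤ) := by exact_mod_cast he2
    push_cast at h6
    linarith

variable {t t' : Fam} {p f i j v f' i' j' w H : ℕ} {S : Type u} [Group S]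

/-- the dichotomy for a given relation of `S` -/
theorem iso_snum (h : Duel t p f i j t' v f' i' j' w H S) (hr : 4 ≤ rk t) (hr' : 4 ≤ rk t')
    {k d : ℕ} {s' a' b' c' a b c : ℤ} {H' : ℕ} (hS : SNum t' (v ^ f') i' j' k d s' a' b' c')
    (hL : LNum (p ^ f) (dimL t) (dgL t (p ^ f)) (ttor t (p ^ f) i) (ttor t (p ^ f) j) a b c)
    (hk : LK t (p ^ f) i j a b c) (hN : ttor t (p ^ f) j = H' * ttor t' (v ^ f') j') (hH1 : 1 ≤ H) (hH1' : 1 ≤ H')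
    (hP1 : 1 ≤ ttor t' (v ^ f') i') (hQ1 : 1 ≤ ttor t' (v ^ f') j') :
    Exo t (p ^ f) t' (v ^ f') i j i' j' H H' ∨
        ((ttor t' (v ^ f') j' : ℤ) ≤ a' * |c| + a * H * |c'| ∧
          (ttor t' (v ^ f') i' : ℤ) ≤ b' * |c| + b * H' * |c'|) := by
  obtain ⟨hq3, hq2⟩ := f_q h.p_prime h.p_ne h.f_pos
  have hu : 2 ≤ v ^ f' := h.v_prime.two_le.trans (Nat.le_self_pow (by have := h.f'_pos; omega) v)
  obtain ⟨ha1, ha2, hb1, hb2, hc, hM1, hN1⟩ := hL.sz hq3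
  obtain ⟨ha1', ha2', hb1', hb2', hab', hba', hd0, -, hk1, hc', hk3, hc0'⟩ := hS.rel.sz hu
  have hM := h.eqM
  by_cases hs : |a' * c - a * H * c'| < ttor t' (v ^ f') j' ∨ |b' * c - b * H' * c'| < ttor t' (v ^ f') i'
  · left
    obtain ⟨-, e2, e3⟩ := elim (M := (ttor t (p ^ f) i : ℤ)) (N := (ttor t (p ^ f) j : ℤ))
      (P := (ttor t' (v ^ f') i' : ℤ)) (Q := (ttor t' (v ^ f') j' : ℤ)) (H1 := (H : ℤ)) (H2 := (H' : ℤ))
      hL.rel hS.eq (by exact_mod_cast hM) (by exact_mod_cast hN) (by omega) (by omega) hs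
    refine iso_alg hq3 hq2 hu ?_ (by omega) hL hk hS hM hN hH1 hH1' ?_ (by omega) (by omega)
      (fun hII => sum_II hq3 hq2 hr h.pair hII) e2 e3
    · exact Nat.Coprime.pow _ _ ((Nat.coprime_primes h.p_prime h.v_prime).2 h.vp.symm)
    · intro he
      apply h.vM
      rw [hM, he]
      exact Dvd.dvd.mul_right (dvd_pow_self v (by have := h.f'_pos; omega)) _
  · right
    rw [not_or, not_lt, not_lt] at hs
    refine ⟨?_, ?_⟩
    · refine hs.1.trans ((abs_sub _ _).trans ?_)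
      rw [abs_mul, abs_mul, abs_mul, abs_of_pos (show 0 < a' by omega), abs_of_pos (show 0 < a by omega),
        Nat.abs_cast]
    · refine hs.2.trans ((abs_sub _ _).trans ?_)
      rw [abs_mul, abs_mul, abs_mul, abs_of_pos (show 0 < b' by omega), abs_of_pos (show 0 < b by omega),
        Nat.abs_cast]

/-- **The inequalities of the exceptional case.** -/
theorem exc_ineq {m H' κ h0 h' e A B : ℕ} {c : ℤ} (h : Duel t p f i j (.ominus m) v f' i' j' w H S)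
    (hD : Dirty t p f i j (.ominus m) v f' i' j' H H' κ h0 h' e A B c) (hr : 4 ≤ rk t) (hm : 6 ≤ m) (hm2 : m % 2 = 0)
    (hv5 : 5 ≤ v) : Exo t (p ^ f) (.ominus m) (v ^ f') i j i' j' H H' ∨
      (5 * (v ^ f') ^ 4 ≤ 2 * (f' * (c.natAbs + 29 * (A * κ))) ∧
        25 * ttor t (p ^ f) i ≤ 48 * (f' ^ 2 * (v ^ f') ^ 2 * (c.natAbs * κ + 24 * (B * κ * v ^ e))) ∧
        3 * f' ^ 4 ≤ 2 * v ^ f') := by
  have hf := h.f'_pos
  have hu5 : 5 ≤ v ^ f' := hv5.trans (Nat.le_self_pow (by omega) v)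
  have hv2 : v % 2 = 1 := Nat.odd_iff.1 (h.v_prime.odd_of_ne_two (by omega))
  have hu2 : v ^ f' % 2 = 1 := odd_pow_mod hv2
  have hj : j' = 2 * m := hD.an
  have hne : i' ≠ 2 * m := by rw [← hj]; exact na_ne h.na'
  obtain ⟨s', a', b', c', hS, ea, hb1, hb2, hc2⟩ := snum_minus (by omega) hm2 (by omega) hu2 h.topi' hne
  rw [← hj] at hS
  rcases iso_snum h hr (show 4 ≤ m by omega) hS hD.lnum hD.lk hD.eqN hD.H1 hD.H'1 hD.P1 hD.Q1 with h1 | ⟨hQ, hP⟩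
  · exact Or.inl h1
  right
  obtain ⟨B', rfl⟩ : ∃ B : ℕ, b' = B := ⟨b'.toNat, (Int.toNat_of_nonneg (by omega)).symm⟩
  subst ea
  simp only [Int.abs_eq_natAbs] at hQ hP hc2
  have hfu : 3 * f' ^ 4 ≤ 2 * v ^ f' := (three_pow hf).trans (Nat.mul_le_mul_left _ (Nat.pow_le_pow_left hv5 f'))
  have hh0 : h0 ≤ 8 * f' := Nat.le_of_dvd (by omega) (show h0 ∣ 8 * f' from hD.h0o)
  have hh1 : h' ≤ 8 * f' := Nat.le_of_dvd (by omega) (show h' ∣ 8 * f' from hD.h'o)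
  have o2 : 0 < h0 := Nat.pos_of_dvd_of_pos (show h0 ∣ 8 * f' from hD.h0o) (by omega)
  have o3 : 0 < h' := Nat.pos_of_dvd_of_pos (show h' ∣ 8 * f' from hD.h'o) (by omega)
  have hκ1 := hD.κ1
  have hHle : H ≤ 8 * f' * κ :=
    (Nat.le_of_dvd (Nat.mul_pos o2 (by omega)) hD.H0d).trans (Nat.mul_le_mul_right _ hh0)
  have hHle' : H' ≤ 8 * f' * v ^ e :=
    (Nat.le_of_dvd (Nat.mul_pos o3 (Nat.pow_pos h.v_prime.pos)) hD.H'd).trans (Nat.mul_le_mul_right _ hh1)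
  have hM := h.eqM
  have hQn : ttor (.ominus m) (v ^ f') j' ≤ v ^ f' * c.natAbs + A * H * c'.natAbs := by exact_mod_cast hQ
  have hPn : ttor (.ominus m) (v ^ f') i' ≤ B' * c.natAbs + B * H' * c'.natAbs := by exact_mod_cast hP
  have hBn : B' ≤ v ^ f' + 1 := by exact_mod_cast hb2
  have hcn : 2 * c'.natAbs ≤ (v ^ f' + 1) ^ 2 := by exact_mod_cast hc2
  have hval : v ^ f' ≠ 0 := by omega
  obtain ⟨v1, -, -⟩ := val_ominus (n := m) (q := v ^ f') (by omega) (by omega)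
  rw [hj] at hQn
  have hg2 : Nat.gcd 4 ((v ^ f') ^ m + 1) = 2 := by
    have h1 := mod_four_of_even (k := m) hu2 hm2
    have h2 : Nat.gcd 4 ((v ^ f') ^ m + 1) ∣ 4 := Nat.gcd_dvd_left _ _
    have h3 : Nat.gcd 4 ((v ^ f') ^ m + 1) ∣ (v ^ f') ^ m + 1 := Nat.gcd_dvd_right _ _
    have h4 := gcd_four_ge (m := (v ^ f') ^ m + 1) (by omega)
    have h5 := Nat.le_of_dvd (by norm_num) h2
    obtain ⟨g, hg⟩ : ∃ g, g = Nat.gcd 4 ((v ^ f') ^ m + 1) := ⟨_, rfl⟩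
    rw [← hg] at h2 h3 h4 h5 ⊢
    interval_cases g
    · rfl
    · omega
    · omega
  rw [hg2] at v1
  have h6 : (v ^ f') ^ 6 ≤ (v ^ f') ^ m := Nat.pow_le_pow_right (by omega) hm
  obtain ⟨u, hu⟩ : ∃ u, u = v ^ f' := ⟨_, rfl⟩
  obtain ⟨C', hC'⟩ : ∃ C', C' = c'.natAbs := ⟨_, rfl⟩
  obtain ⟨C, hC⟩ : ∃ C, C = c.natAbs := ⟨_, rfl⟩
  obtain ⟨V, hV⟩ : ∃ V, V = v ^ e := ⟨_, rfl⟩
  obtain ⟨P, hP0⟩ : ∃ P, P = ttor (.ominus m) (v ^ f') i' := ⟨_, rfl⟩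
  obtain ⟨Q, hQ0⟩ : ∃ Q, Q = ttor (.ominus m) (v ^ f') (2 * m) := ⟨_, rfl⟩
  rw [← hP0] at hPn hM
  rw [← hQ0] at hQn v1
  rw [← hC, ← hC'] at hQn hPn
  rw [← hC'] at hcn
  rw [← hV] at hHle' ⊢
  rw [← hu] at hQn v1 h6 hBn hcn hu5 hfu ⊢
  rw [← hC]
  rw [hM]
  have q1 : 2 * (A * H * C') ≤ 8 * f' * (u + 1) ^ 2 * (A * κ) := by
    calc 2 * (A * H * C') = A * (H * (2 * C')) := by ring
      _ ≤ A * ((8 * f' * κ) * (u + 1) ^ 2) := Nat.mul_le_mul_left _ (Nat.mul_le_mul hHle hcn)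
      _ = _ := by ring
  have q2 : 2 * (B * H' * C') ≤ 2 * (4 * f' * B * V * (u + 1) ^ 2) := by
    calc 2 * (B * H' * C') = B * (H' * (2 * C')) := by ring
      _ ≤ B * ((8 * f' * V) * (u + 1) ^ 2) := Nat.mul_le_mul_left _ (Nat.mul_le_mul hHle' hcn)
      _ = _ := by ring
  have r1 : u ^ 6 ≤ 2 * u * C + 8 * f' * (u + 1) ^ 2 * (A * κ) := by
    have e1 : 2 * (u * C) = 2 * u * C := by ring
    omega
  have r2 : P ≤ (u + 1) * C + 4 * f' * B * V * (u + 1) ^ 2 := by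
    have e1 : B' * C ≤ (u + 1) * C := Nat.mul_le_mul_right _ hBn
    omega
  have r3 : H * P ≤ 8 * f' * κ * ((u + 1) * C + 4 * f' * B * V * (u + 1) ^ 2) := Nat.mul_le_mul hHle r2
  obtain ⟨g1, g2⟩ := gam_exc hu5 hf r1 r3
  exact ⟨g1, g2, hfu⟩

end Cfsg.Agent.R2.Spec.Gamma
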