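import Cfsg.Agent.R2.Spec.Gamma.Lte
import Cfsg.Agent.R2.Spec.E.RelO
import Cfsg.Agent.R2.Spec.F1.Exist
import Cfsg.Agent.R2.Spec.F1.SSide

/-!
# Packet GAMMA (helper27): the power of `v` in the isolated numbers, `v` of class `3` or `4`

* `v3_psl`, `v3_psu` : class `3`, linear and unitary groups;
* `v4_orth` : class `4`, orthogonal groups of even dimension.
-/

set_option autoImplicit false

namespace Cfsg.Agent.R2.Spec.Gamma

open Cfsg Cfsg.Agent.H426.LieFam Cfsg.Agent.R2.Spec Cfsg.Agent.R2.Spec.P1 Cfsg.Agent.R2.Spec.F1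
  Cfsg.Agent.R2.Spec.E

/-- lifting the exponent, as a divisibility -/
theorem lte_dvd {v : ℕ} (hv : v.Prime) (hodd : Odd v) {y : ℤ} {k e : ℕ} (h1 : (v : ℤ) ∣ y - 1)
    (h2 : ¬ (v : ℤ) ∣ y) (h : (v : ℤ) ^ e ∣ y ^ k - 1) : (v : ℤ) ^ e ∣ (y - 1) * k := by
  have h3 := Int.emultiplicity_pow_sub_pow hv hodd (x := y) (y := 1) h1 h2 k
  rw [one_pow] at h3
  rw [pow_dvd_iff_le_emultiplicity] at h ⊢
  rw [h3] at h
  rw [emultiplicity_mul (Nat.prime_iff_prime_int.1 hv), Int.natCast_emultiplicity]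
  exact h

theorem odd_of_three {v : ℕ} (hv : v.Prime) {x : ℤ} {m : ℕ} (hm : 3 ≤ m) (h : orderOf ((x : ℤ) : ZMod v) = m) :
    Odd v ∧ m ∣ v - 1 ∧ ¬ (v : ℤ) ∣ x := by
  have := Fact.mk hv
  have h0 : ((x : ℤ) : ZMod v) ≠ 0 := by
    intro h0
    rw [h0, orderOf_zero] at h
    omega
  have h1 : m ∣ v - 1 := by
    rw [← h]
    exact orderOf_dvd_of_pow_eq_one (ZMod.pow_card_sub_one_eq_one h0)
  have h2 := hv.two_le
  have h3 := Nat.le_of_dvd (by omega) h1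
  refine ⟨hv.odd_of_ne_two (by omega), h1, fun h4 => h0 ?_⟩
  rwa [ZMod.intCast_zmod_eq_zero_iff_dvd]

theorem core3 {v : ℕ} (hv : v.Prime) {x : ℤ} (h : orderOf ((x : ℤ) : ZMod v) = 3) {k e : ℕ}
    (hN : (v : ℤ) ^ e ∣ x ^ (3 * k) - 1) :
    v % 6 = 1 ∧ (v : ℤ) ∣ x ^ 2 + x + 1 ∧ (v : ℤ) ^ e ∣ (x ^ 2 + x + 1) * k := by
  have := Fact.mk hv
  obtain ⟨hodd, h3, hx⟩ := odd_of_three hv le_rfl h
  have hvp := Nat.prime_iff_prime_int.1 hv
  have h1 : ¬ (v : ℤ) ∣ x - 1 := by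
    intro h1
    rw [← ZMod.intCast_zmod_eq_zero_iff_dvd, Int.cast_sub, Int.cast_one, sub_eq_zero] at h1
    rw [h1, orderOf_one] at h
    omega
  have h2 : (v : ℤ) ∣ x ^ 3 - 1 := by
    rw [← ZMod.intCast_zmod_eq_zero_iff_dvd, Int.cast_sub, Int.cast_one, Int.cast_pow, ← h, pow_orderOf_eq_one,
      sub_self]
  have e1 : x ^ 3 - 1 = (x - 1) * (x ^ 2 + x + 1) := by ring
  refine ⟨?_, ?_, ?_⟩
  · have h4 := hv.two_le
    rw [Nat.odd_iff] at hodd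
    omega
  · rw [e1] at h2
    exact (hvp.dvd_or_dvd h2).resolve_left h1
  · rw [pow_mul] at hN
    have h5 := lte_dvd hv hodd h2 (fun h5 => hx (hvp.dvd_of_dvd_pow h5)) hN
    rw [e1, mul_assoc] at h5
    exact (((Int.prime_iff_natAbs_prime.2 (by simpa using hv)).coprime_iff_not_dvd.2 h1).pow_left).dvd_of_dvd_mul_left h5

theorem core4 {v : ℕ} (hv : v.Prime) {x : ℤ} (h : orderOf ((x : ℤ) : ZMod v) = 4) {k e : ℕ} (hk : k % 2 = 1)
    (hN : (v : ℤ) ^ e ∣ x ^ (2 * k) + 1) :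
    v % 4 = 1 ∧ (v : ℤ) ∣ x ^ 2 + 1 ∧ (v : ℤ) ^ e ∣ (x ^ 2 + 1) * k := by
  have := Fact.mk hv
  obtain ⟨hodd, h3, hx⟩ := odd_of_three hv (by norm_num) h
  have hvp := Nat.prime_iff_prime_int.1 hv
  have h1 : ¬ (v : ℤ) ∣ x ^ 2 - 1 := by
    intro h1
    rw [← ZMod.intCast_zmod_eq_zero_iff_dvd, Int.cast_sub, Int.cast_one, Int.cast_pow, sub_eq_zero] at h1
    have h2 := orderOf_dvd_of_pow_eq_one h1
    rw [h] at h2
    exact absurd (Nat.le_of_dvd (by norm_num) h2) (by norm_num)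
  have h2 : (v : ℤ) ∣ x ^ 4 - 1 := by
    rw [← ZMod.intCast_zmod_eq_zero_iff_dvd, Int.cast_sub, Int.cast_one, Int.cast_pow, ← h, pow_orderOf_eq_one,
      sub_self]
  have e1 : x ^ 4 - 1 = (x ^ 2 - 1) * (x ^ 2 + 1) := by ring
  have h4 : (v : ℤ) ∣ x ^ 2 + 1 := by
    rw [e1] at h2
    exact (hvp.dvd_or_dvd h2).resolve_left h1
  refine ⟨?_, h4, ?_⟩
  · have h5 := hv.two_le
    omega
  · have hko : Odd k := Nat.odd_iff.2 hk
    have e2 : x ^ (2 * k) + 1 = -((-(x ^ 2)) ^ k - 1) := by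
      rw [hko.neg_pow, ← pow_mul]
      ring
    rw [e2, dvd_neg] at hN
    have e3 : -(x ^ 2) - 1 = -(x ^ 2 + 1) := by ring
    have h5 := lte_dvd hv hodd (y := -(x ^ 2)) (by rw [e3, dvd_neg]; exact h4)
      (fun h5 => hx (hvp.dvd_of_dvd_pow (dvd_neg.1 h5))) hN
    rwa [e3, neg_mul, dvd_neg] at h5

theorem v3_psl {n q v e j : ℕ} (hq : 3 ≤ q) (hn : 9 ≤ n) (hv : v.Prime) (hc : cls (.psl n) q v = 3)
    (hj : j = n ∨ j + 1 = n) (h3 : 3 ∣ j) (hN : v ^ e ∣ ttor (.psl n) q j) :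
    v % 6 = 1 ∧ v ∣ q ^ 2 + q + 1 ∧ v ^ e ∣ (q ^ 2 + q + 1) * (j / 3) := by
  obtain ⟨k, rfl⟩ := h3
  obtain ⟨w1, w2⟩ := val_psl (n := n) (q := q) (by omega) (by omega)
  have hc' : orderOf (((q : ℤ) : ℤ) : ZMod v) = 3 := hc
  have h1 : v ^ e ∣ q ^ (3 * k) - 1 := by
    rcases hj with hj | hj
    · rw [hj] at hN ⊢
      rw [← w1]
      exact hN.mul_right _
    · have hj' : 3 * k = n - 1 := by omega
      rw [hj'] at hN ⊢
      rw [← w2]
      exact hN.mul_right _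
  have h2 : (v : ℤ) ^ e ∣ (q : ℤ) ^ (3 * k) - 1 := by
    rw [← cast_pow_sub (by omega)]
    exact_mod_cast h1
  obtain ⟨a, b, c⟩ := core3 hv hc' h2
  rw [Nat.mul_div_cancel_left k (by norm_num)]
  exact ⟨a, by exact_mod_cast b, by exact_mod_cast c⟩

theorem v3_psu {n q v e j : ℕ} (hq : 3 ≤ q) (hn : 9 ≤ n) (hv : v.Prime) (hc : cls (.psu n) q v = 3)
    (hj : j = n ∨ j + 1 = n) (h3 : 3 ∣ j) (hN : v ^ e ∣ ttor (.psu n) q j) :
    v % 6 = 1 ∧ v ∣ q ^ 2 - q + 1 ∧ v ^ e ∣ (q ^ 2 - q + 1) * (j / 3) := by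
  obtain ⟨k, rfl⟩ := h3
  obtain ⟨w1, w2⟩ := val_psu (n := n) (q := q) (by omega) (by omega)
  have hc' : orderOf (((-(q : ℤ)) : ℤ) : ZMod v) = 3 := hc
  have h1 : v ^ e ∣ (if (3 * k) % 2 = 0 then q ^ (3 * k) - 1 else q ^ (3 * k) + 1) := by
    rcases hj with hj | hj
    · rw [hj] at hN ⊢
      rw [← w1]
      exact hN.mul_right _
    · have hj' : 3 * k = n - 1 := by omega
      rw [hj'] at hN ⊢
      have h4 : v ^ e ∣ (if n % 2 = 0 then q ^ (n - 1) + 1 else q ^ (n - 1) - 1) := by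
        rw [← w2]
        exact hN.mul_right _
      by_cases h : n % 2 = 0
      · rw [if_pos h] at h4
        rwa [if_neg (by omega)]
      · rw [if_neg h] at h4
        rwa [if_pos (by omega)]
  have h2 : (v : ℤ) ^ e ∣ (-(q : ℤ)) ^ (3 * k) - 1 := by
    by_cases h : (3 * k) % 2 = 0
    · rw [if_pos h] at h1
      rw [(Nat.even_iff.2 h).neg_pow, ← cast_pow_sub (by omega)]
      exact_mod_cast h1
    · rw [if_neg h] at h1
      rw [(Nat.odd_iff.2 (by omega)).neg_pow, show -(q : ℤ) ^ (3 * k) - 1 = -((q ^ (3 * k) + 1 : ℕ) : ℤ) by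
        push_cast; ring, dvd_neg]
      exact_mod_cast h1
  obtain ⟨a, b, c⟩ := core3 hv hc' h2
  have e1 : (-(q : ℤ)) ^ 2 + -(q : ℤ) + 1 = ((q ^ 2 - q + 1 : ℕ) : ℤ) := by
    have : q ≤ q ^ 2 := Nat.le_self_pow (by norm_num) q
    rw [Nat.cast_add, Nat.cast_sub this]
    push_cast
    ring
  rw [e1] at b c
  rw [Nat.mul_div_cancel_left k (by norm_num)]
  exact ⟨a, by exact_mod_cast b, by exact_mod_cast c⟩

theorem v4_orth {t : Fam} {n q v e : ℕ} (hq : 3 ≤ q) (_hq2 : q % 2 = 1) (ht : t = .oplus n ∨ t = .ominus n)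
    (hn : 7 ≤ n) (hn4 : n % 4 = 3) (hv : v.Prime) (hc : cls t q v = 4) (hN : v ^ e ∣ ttor t q (2 * (n - 1))) :
    v % 4 = 1 ∧ v ∣ q ^ 2 + 1 ∧ v ^ e ∣ (q ^ 2 + 1) * ((n - 1) / 2) := by
  have hf := Fact.mk hv
  have hvp := Nat.prime_iff_prime_int.1 hv
  have hc' : orderOf (((q : ℤ) : ℤ) : ZMod v) = 4 := by
    rcases ht with rfl | rfl
    · exact hc
    · exact hc
  have hq1 : ∀ s : ℕ, (s = q + 1 ∨ s = q - 1) → Nat.Coprime (v ^ e) s := by
    intro s hs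
    apply Nat.Coprime.pow_left
    rw [hv.coprime_iff_not_dvd]
    intro h1
    have h2 : ((q : ℤ) : ZMod v) ^ 2 = 1 := by
      have h3 : v ∣ q ^ 2 - 1 := by
        rw [sq_sub_one]
        rcases hs with rfl | rfl
        · exact h1.mul_right _
        · exact h1.mul_left _
      have h4 : (v : ℤ) ∣ (q : ℤ) ^ 2 - 1 := by
        rw [← cast_pow_sub (by omega)]
        exact_mod_cast h3
      rw [← ZMod.intCast_zmod_eq_zero_iff_dvd, Int.cast_sub, Int.cast_one, Int.cast_pow, sub_eq_zero] at h4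
      exact h4
    have h5 := orderOf_dvd_of_pow_eq_one h2
    rw [hc'] at h5
    exact absurd (Nat.le_of_dvd (by norm_num) h5) (by norm_num)
  have h1 : v ^ e ∣ q ^ (n - 1) + 1 := by
    rcases ht with rfl | rfl
    · have w := (val_oplus_odd (n := n) (q := q) (by omega) (by omega) (by omega)).2
      have h2 : v ^ e ∣ (q ^ (n - 1) + 1) * (q + 1) := by
        rw [← w]
        exact hN.mul_right _
      exact (hq1 _ (Or.inl rfl)).dvd_of_dvd_mul_right h2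
    · have w := (val_ominus (n := n) (q := q) (by omega) (by omega)).2.1
      have h2 : v ^ e ∣ (q ^ (n - 1) + 1) * (q - 1) := by
        rw [← w]
        exact hN.mul_right _
      exact (hq1 _ (Or.inr rfl)).dvd_of_dvd_mul_right h2
  have e1 : n - 1 = 2 * ((n - 1) / 2) := by omega
  have h2 : (v : ℤ) ^ e ∣ (q : ℤ) ^ (2 * ((n - 1) / 2)) + 1 := by
    rw [← e1]
    exact_mod_cast h1
  obtain ⟨a, b, c⟩ := core4 hv hc' (by omega) h2
  exact ⟨a, by exact_mod_cast b, by exact_mod_cast c⟩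

end Cfsg.Agent.R2.Spec.Gamma
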