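import Cfsg.Agent.R2.Spec.Gamma.EChk
import Cfsg.Agent.R2.Spec.Gamma.Exc
import Cfsg.Agent.R2.Spec.Gamma.VExc

/-!
# Packet GAMMA (helper28): the exceptional case, soundness and conclusion
-/

set_option autoImplicit false
set_option linter.unusedSectionVars false

namespace Cfsg.Agent.R2.Spec.Gamma

open Cfsg Cfsg.Agent.H426.LieFam Cfsg.Agent.R2.Spec Cfsg.Agent.R2.Spec.P1 Cfsg.Agent.R2.Spec.F1 Cfsg.Agent.R2.Spec.E

universe u

theorem ecF_false {v f' m N V : ℕ} (hv : v.Prime) (hf : 1 ≤ f') (hm : 6 ≤ m) (hm2 : m % 2 = 0)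
    (hN : 1 ≤ N) (h1 : ttor (.ominus m) (v ^ f') (2 * m) ∣ N)
    (h2 : N / ttor (.ominus m) (v ^ f') (2 * m) ∣ (8 * f') * V)
    (h : ecF N V v (Nat.log2 (8 * N)) = true) : False := by
  have hu : 2 ≤ v ^ f' := hv.two_le.trans (Nat.le_self_pow (by omega) v)
  have hlow := lowS (t' := .ominus m) hu (show 4 ≤ m by omega) (show top (.ominus m) (2 * m) from Or.inl rfl)
  have hQ : 8 * ttor (.ominus m) (v ^ f') (2 * m) ≤ 8 * N := Nat.mul_le_mul_left _ (Nat.le_of_dvd hN h1)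
  have key : ∀ r, r ≤ m → (v ^ f') ^ r ≤ 8 * N := fun r hr =>
    ((Nat.pow_le_pow_right (by omega) hr).trans hlow).trans hQ
  have key2 : ∀ r, r ≤ m → f' * r ≤ Nat.log2 (8 * N) := fun r hr => by
    refine two_pow_log (by omega) ?_
    rw [pow_mul]
    exact (Nat.pow_le_pow_left (Nat.pow_le_pow_left hv.two_le _) _).trans (key r hr)
  have h5 := key2 6 hm
  have hm' := key2 m le_rfl
  rw [ecF, List.all_eq_true] at h
  have h3 := h f' (by rw [List.mem_range]; omega)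
  rw [Bool.or_eq_true, Bool.or_eq_true, beq_iff, blt_iff] at h3
  rcases h3 with (h3 | h3) | h3
  · omega
  · have := key 6 hm
    omega
  rw [ecM, List.all_eq_true] at h3
  have h4 := h3 m (by
    rw [List.mem_range]
    have : m ≤ Nat.log2 (8 * N) / f' := by
      rw [Nat.le_div_iff_mul_le (by omega), mul_comm]
      exact hm'
    omega)
  rw [Bool.or_eq_true, Bool.or_eq_true, Bool.or_eq_true, ble_iff, beq_iff, blt_iff] at h4
  rcases h4 with ((h4 | h4) | h4) | h4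
  · omega
  · omega
  · have := key m le_rfl
    omega
  exact tst_false h4 h1 h2

theorem ecV_false {v f' m N e Phi st K0 H' : ℕ} (hv : v.Prime) (hf : 1 ≤ f') (hm : 6 ≤ m) (hm2 : m % 2 = 0)
    (hN : 1 ≤ N) (hvs : v % st = 1) (hvK : v / st < K0) (hPhi : v ∣ Phi)
    (hNQ : N = H' * ttor (.ominus m) (v ^ f') (2 * m)) (hQ1 : 1 ≤ ttor (.ominus m) (v ^ f') (2 * m))
    (hH : H' ∣ (8 * f') * v ^ e) (hve : v ^ e ∣ N) (h : ecV N Phi st K0 (Nat.log2 (8 * N)) = true) : False := by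
  rw [ecV, List.all_eq_true] at h
  have h1 := h (v / st) (List.mem_range.2 hvK)
  have hvd : st * (v / st) + 1 = v := by
    have := Nat.div_add_mod v st
    omega
  have hv1 := hv.one_lt
  rw [hvd, Bool.or_eq_true, Bool.or_eq_true, beq_iff, Bool.not_eq_true', Nat.mod_eq_zero_of_dvd hPhi] at h1
  rcases h1 with (h1 | h1) | h1
  · rw [h1] at hvd
    omega
  · cases h1
  have he : e ≤ Nat.log2 (8 * N) := by
    refine two_pow_log (by omega) ?_
    have h4 : 2 ^ e ≤ v ^ e := Nat.pow_le_pow_left hv.two_le _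
    have h5 := Nat.le_of_dvd hN hve
    omega
  have k3 : v ^ e ∣ Nat.gcd N (v ^ Nat.log2 (8 * N)) := Nat.dvd_gcd hve (pow_dvd_pow v he)
  refine ecF_false hv hf hm hm2 hN (Dvd.intro_left _ hNQ.symm) ?_ h1
  have h2 : N / ttor (.ominus m) (v ^ f') (2 * m) = H' := by
    conv_lhs => rw [hNQ]
    rw [Nat.mul_div_cancel _ hQ1]
  rw [h2]
  exact hH.trans (Nat.mul_dvd_mul_left _ k3)

theorem v_bound {v f' m N : ℕ} (hv : v.Prime) (hf : 1 ≤ f') (hm : 6 ≤ m)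
    (hN : 1 ≤ N) (h1 : ttor (.ominus m) (v ^ f') (2 * m) ∣ N) : v < 2 ^ (Nat.log2 (8 * N) / 6 + 1) := by
  have hu : 2 ≤ v ^ f' := hv.two_le.trans (Nat.le_self_pow (by omega) v)
  have hlow := lowS (t' := .ominus m) hu (show 4 ≤ m by omega) (show top (.ominus m) (2 * m) from Or.inl rfl)
  have hQ : 8 * ttor (.ominus m) (v ^ f') (2 * m) ≤ 8 * N := Nat.mul_le_mul_left _ (Nat.le_of_dvd hN h1)
  have h2 : v ^ 6 ≤ 8 * N := by
    calc v ^ 6 ≤ (v ^ f') ^ 6 := Nat.pow_le_pow_left (Nat.le_self_pow (by omega) v) 6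
      _ ≤ (v ^ f') ^ m := Nat.pow_le_pow_right (by omega) hm
      _ ≤ 8 * N := hlow.trans hQ
  have h3 := Nat.lt_log2_self (n := 8 * N)
  refine lt_of_pow_lt_pow_left₀ 6 (Nat.zero_le _) ?_
  calc v ^ 6 < 2 ^ (Nat.log2 (8 * N) + 1) := by omega
    _ ≤ 2 ^ ((Nat.log2 (8 * N) / 6 + 1) * 6) := Nat.pow_le_pow_right (by norm_num) (by omega)
    _ = _ := by rw [pow_mul]

theorem ecA_false {v f' m N e Phi st H' : ℕ} (hv : v.Prime) (hf : 1 ≤ f') (hm : 6 ≤ m) (hm2 : m % 2 = 0)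
    (hN : 1 ≤ N) (_hst : 1 < st) (hvs : v % st = 1) (hPhi : v ∣ Phi)
    (hNQ : N = H' * ttor (.ominus m) (v ^ f') (2 * m)) (hQ1 : 1 ≤ ttor (.ominus m) (v ^ f') (2 * m))
    (hH : H' ∣ (8 * f') * v ^ e) (hve : v ^ e ∣ N) (h : ecA N Phi st = true) : False := by
  refine ecV_false hv hf hm hm2 hN hvs ?_ hPhi hNQ hQ1 hH hve h
  have h1 := v_bound hv hf hm hN (Dvd.intro_left _ hNQ.symm)
  have := Nat.div_le_div_right (c := st) h1.le
  omega

variable {t t' : Fam} {p f i j v f' i' j' w H : ℕ} {S : Type u} [Group S]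

/-- all data needed for the check -/
theorem exc_end {m H' κ h0 h' e A B q Phi st K0 : ℕ} {c : ℤ} (hq : q = p ^ f)
    (h : Duel t p f i j (.ominus m) v f' i' j' w H S)
    (hD : Dirty t p f i j (.ominus m) v f' i' j' H H' κ h0 h' e A B c) (hm : 6 ≤ m) (hm2 : m % 2 = 0)
    (hst : 1 < st) (hvs : v % st = 1) (hPhi : v ∣ Phi)
    (hk : ecA (ttor t q j) Phi st = true ∨ (v / st < K0 ∧ ecV (ttor t q j) Phi st K0 (Nat.log2 (8 * ttor t q j)) = true)) :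
    False := by
  subst hq
  obtain ⟨hq3, hq2⟩ := f_q h.p_prime h.p_ne h.f_pos
  obtain ⟨-, -, -, -, -, hM1, hN1⟩ := hD.lnum.sz hq3
  have hj : j' = 2 * m := hD.an
  have hNQ := hD.eqN
  have hQ1 := hD.Q1
  rw [hj] at hNQ hQ1
  have hH : H' ∣ (8 * f') * v ^ e := hD.H'd.trans (Nat.mul_dvd_mul_right hD.h'o _)
  rcases hk with hk | ⟨hk1, hk⟩
  · exact ecA_false h.v_prime h.f'_pos hm hm2 hN1 hst hvs hPhi hNQ hQ1 hH hD.veN hk
  · exact ecV_false h.v_prime h.f'_pos hm hm2 hN1 hvs hk1 hPhi hNQ hQ1 hH hD.veN hk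

theorem ecQ_apply {t : Fam} {j st Q q : ℕ} {Phi : ℕ → ℕ} (h : ecQ t j st Phi Q = true) (hq : q < Q) (hq3 : 3 ≤ q)
    (hq2 : q % 2 = 1) : ecA (ttor t q j) (Phi q) st = true := by
  rw [ecQ, List.all_eq_true] at h
  have h1 := h q (List.mem_range.2 hq)
  rw [Bool.or_eq_true, Bool.or_eq_true, ble_iff, beq_iff] at h1
  rcases h1 with (h1 | h1) | h1
  · omega
  · omega
  · exact h1

theorem ecNine_apply {t : Fam} {q : ℕ} {Phi : ℕ → ℕ} (h : ecNine t Phi = true) (hq : q < 734) (hq3 : 3 ≤ q)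
    (hq2 : q % 2 = 1) : ecV (ttor t q 9) (Phi q) 6 16 (Nat.log2 (8 * ttor t q 9)) = true := by
  rw [ecNine, List.all_eq_true] at h
  have h1 := h q (List.mem_range.2 hq)
  rw [Bool.or_eq_true, Bool.or_eq_true, ble_iff, beq_iff] at h1
  rcases h1 with (h1 | h1) | h1
  · omega
  · omega
  · exact h1

/-- the detailed constants, linear case, `i + 1 = n`, `j = n` -/
theorem lkAB {q n A B : ℕ} {c : ℤ} (ht : t = .psl n ∨ t = .psu n) (hn : 4 ≤ n) (hi : i + 1 = n) (hj : j = n)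
    (h : LK t q i j A B c) : A = q ∧ B = usg t q := by
  rcases h with ⟨n', s, h1, h2, h3, h4⟩ | ⟨n', d, s, τ, X, h1, -⟩ | ⟨h1, -⟩
  · have hnn : n' = n := by
      rcases ht with rfl | rfl <;> rcases h1 with h1 | h1 <;> cases h1 <;> rfl
    subst hnn
    rcases h4 with ⟨h4, -⟩ | ⟨-, -, h4, h5⟩
    · omega
    · refine ⟨by exact_mod_cast h4, ?_⟩
      rw [h2] at h5
      exact_mod_cast h5
  · rcases ht with rfl | rfl <;> rcases h1 with ⟨h1, -⟩ | ⟨h1, -⟩ <;> exact Fam.noConfusion h1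
  · rcases ht with rfl | rfl <;> exact h1.elim

/-- `2 d κ ≤ (q ^ 2 - 1) (n - 1)` -/
theorem kap_psl {n q κ : ℕ} (hq : 3 ≤ q) (hq2 : q % 2 = 1) (hn : 9 ≤ n) (hs : Smo κ (q ^ 2 - 1))
    (hp : PairOK (.psl n) i j) (hκ : κ ∣ ttor (.psl n) q i) : 2 * (Nat.gcd n (q - 1) * κ) ≤ (q ^ 2 - 1) * (n - 1) := by
  obtain ⟨k1, k2, k3, k4⟩ := sm_psl (n := n) hq hq2 (by omega) hs
  have e0 : q ^ 2 - 1 = (q + 1) * (q - 1) := sq_sub_one
  have hq8 : 8 ≤ q ^ 2 - 1 := by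
    have : 3 ^ 2 ≤ q ^ 2 := Nat.pow_le_pow_left hq 2
    omega
  rcases Nat.mod_two_eq_zero_or_one n with h2 | h2
  · rcases hp with ⟨rfl, h6⟩ | ⟨h6, rfl⟩
    · refine (k2 h2 hκ).trans ?_
      rw [e0, mul_assoc]
      refine Nat.mul_le_mul_left _ ?_
      calc i ≤ 2 * (i - 1) := by omega
        _ ≤ (q - 1) * (i - 1) := Nat.mul_le_mul_right _ (by omega)
    · obtain rfl : i = j - 1 := by omega
      have e1 := Nat.mul_le_mul_left 2 (k4 h2 hκ)
      refine e1.trans ?_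
      rw [e0, ← mul_assoc]
      refine Nat.mul_le_mul_right _ ?_
      exact Nat.mul_le_mul_right _ (by omega)
  · rcases hp with ⟨rfl, h6⟩ | ⟨h6, rfl⟩
    · have e1 := Nat.mul_le_mul_left 2 (k1 h2 hκ)
      refine e1.trans ?_
      calc 2 * i ≤ 8 * (i - 1) := by omega
        _ ≤ (q ^ 2 - 1) * (i - 1) := Nat.mul_le_mul_right _ hq8
    · obtain rfl : i = j - 1 := by omega
      exact k3 h2 hκ

theorem kap_psu {n q κ : ℕ} (hq : 3 ≤ q) (hq2 : q % 2 = 1) (hn : 9 ≤ n) (hs : Smo κ (q ^ 2 - 1))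
    (hp : PairOK (.psu n) i j) (hκ : κ ∣ ttor (.psu n) q i) : 2 * (Nat.gcd n (q + 1) * κ) ≤ (q ^ 2 - 1) * (n - 1) := by
  obtain ⟨k1, k2, k3, k4⟩ := sm_psu (n := n) hq hq2 (by omega) hs
  have e0 : q ^ 2 - 1 = (q + 1) * (q - 1) := sq_sub_one
  have hq8 : 8 ≤ q ^ 2 - 1 := by
    have : 3 ^ 2 ≤ q ^ 2 := Nat.pow_le_pow_left hq 2
    omega
  rcases Nat.mod_two_eq_zero_or_one n with h2 | h2
  · rcases hp with ⟨rfl, h6⟩ | ⟨h6, rfl⟩
    · refine (k2 h2 hκ).trans ?_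
      rw [e0, mul_comm (q + 1), mul_assoc]
      refine Nat.mul_le_mul_left _ ?_
      calc i ≤ 2 * (i - 1) := by omega
        _ ≤ (q + 1) * (i - 1) := Nat.mul_le_mul_right _ (by omega)
    · obtain rfl : i = j - 1 := by omega
      have e1 := Nat.mul_le_mul_left 2 (k4 h2 hκ)
      refine e1.trans ?_
      rw [e0, ← mul_assoc, mul_comm (q + 1) (q - 1)]
      refine Nat.mul_le_mul_right _ ?_
      exact Nat.mul_le_mul_right _ (by omega)
  · rcases hp with ⟨rfl, h6⟩ | ⟨h6, rfl⟩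
    · have e1 := Nat.mul_le_mul_left 2 (k1 h2 hκ)
      refine e1.trans ?_
      calc 2 * i ≤ 8 * (i - 1) := by omega
        _ ≤ (q ^ 2 - 1) * (i - 1) := Nat.mul_le_mul_right _ hq8
    · obtain rfl : i = j - 1 := by omega
      exact k3 h2 hκ

theorem cop_three {v e z : ℕ} (hv : v.Prime) (hv6 : v % 6 = 1) (h : v ^ e ∣ z * 3) : v ^ e ∣ z := by
  refine Nat.Coprime.dvd_of_dvd_mul_right (Nat.Coprime.pow_left e ?_) h
  rw [Nat.coprime_primes hv Nat.prime_three]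
  rintro rfl
  omega

/-- linear groups -/
theorem exc_psl_false {n m H' κ h0 h' e A B : ℕ} {c : ℤ} (h : Duel (.psl n) p f i j (.ominus m) v f' i' j' w H S)
    (hD : Dirty (.psl n) p f i j (.ominus m) v f' i' j' H H' κ h0 h' e A B c) (h9 : 9 ≤ n) (hm : 6 ≤ m)
    (hm2 : m % 2 = 0) (hc : cls (.psl n) (p ^ f) v = 3) (h3 : 3 ∣ j)
    (g1 : 5 * (v ^ f') ^ 4 ≤ 2 * (f' * (c.natAbs + 29 * (A * κ))))
    (g2 : 25 * ttor (.psl n) (p ^ f) i ≤ 48 * (f' ^ 2 * (v ^ f') ^ 2 * (c.natAbs * κ + 24 * (B * κ * v ^ e))))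
    (g3 : 3 * f' ^ 4 ≤ 2 * v ^ f') : False := by
  obtain ⟨hq3, hq2⟩ := f_q h.p_prime h.p_ne h.f_pos
  have hpair := h.pair
  obtain ⟨ha1, ha2, hb1, hb2, hcc, hM1, hN1⟩ := hD.lnum.sz hq3
  have hA : A ≤ p ^ f + 1 := by exact_mod_cast ha2
  have hB : B ≤ p ^ f + 1 := by exact_mod_cast hb2
  have hC := lkC_lin hq3 (Or.inl rfl) hD.lk
  have hd := dgL_pos (t := .psl n) (q := p ^ f) (show 4 ≤ n by omega)
  have hκ := kap_psl hq3 hq2 h9 hD.smo hpair hD.κM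
  have hjn : j = n ∨ j + 1 = n := by rcases hpair with h | h <;> omega
  obtain ⟨v1, v2, v3⟩ := v3_psl hq3 h9 h.v_prime hc hjn h3 hD.veN
  have hdim : dimL (.psl n) = n - 1 := rfl
  have hlowM := hD.lnum.lowM
  rw [hdim] at hlowM
  have hlk := hD.lk
  obtain ⟨q, hq⟩ : ∃ q, q = p ^ f := ⟨_, rfl⟩
  rw [← hq] at hq3 hq2 hA hB hC hd hκ v2 v3 hlowM g2 hlk
  rcases Nat.eq_or_lt_of_le h9 with h9' | h10
  · -- rank nine
    subst h9'
    obtain rfl : j = 9 := by omega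
    have hi : i = 8 := by rcases hpair with h | h <;> omega
    subst hi
    obtain ⟨eA, eB⟩ := lkAB (Or.inl rfl) (by norm_num) rfl rfl hlk
    rw [eA] at g1
    rw [eB] at g2
    have hv7 : 7 ≤ v := by
      have := h.v_prime.one_lt
      omega
    have hV : v ^ e ≤ q ^ 2 + q + 1 := Nat.le_of_dvd (by omega) (cop_three h.v_prime v1 v3)
    have hBV : usg (.psl 9) q * v ^ e ≤ q ^ 3 + 1 := by
      calc usg (.psl 9) q * v ^ e ≤ (q - 1) * (q ^ 2 + q + 1) := Nat.mul_le_mul_left _ hV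
        _ ≤ q ^ 3 + 1 := by
          obtain ⟨r, rfl⟩ : ∃ r, q = r + 1 := ⟨q - 1, by omega⟩
          rw [Nat.add_sub_cancel]
          ring_nf
          omega
    obtain ⟨-, w2⟩ := val_psl (n := 9) (q := q) (by norm_num) (by omega)
    obtain ⟨k1, k2⟩ := endE9 hq3 hd h.f'_pos hv7 hC hBV hκ w2 g1 g2
    refine exc_end (K0 := 16) hq h hD hm hm2 (by norm_num) v1 v2 (Or.inr ⟨by omega, ?_⟩)
    exact ecNine_apply nine_psl k1 hq3 hq2
  · have hV : 3 * v ^ e ≤ (q + 1) ^ 2 * (n - 1 + 1) := by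
      have e1 : v ^ e ≤ (q ^ 2 + q + 1) * (j / 3) := Nat.le_of_dvd (Nat.mul_pos (by omega) (by omega)) v3
      calc 3 * v ^ e ≤ 3 * ((q ^ 2 + q + 1) * (j / 3)) := Nat.mul_le_mul_left _ e1
        _ = (q ^ 2 + q + 1) * (3 * (j / 3)) := by ring
        _ ≤ (q + 1) ^ 2 * (n - 1 + 1) := Nat.mul_le_mul (by nlinarith) (by omega)
    have hsq : q ^ 2 - 1 ≤ (q + 1) ^ 2 := by
      have : q ^ 2 ≤ (q + 1) ^ 2 := Nat.pow_le_pow_left (by omega) 2
      omega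
    obtain ⟨x, hx, h5, h6⟩ := endE (r := n - 1) (by omega) hq3 hd hC hA hB (hκ.trans (Nat.mul_le_mul_right _ hsq)) hV
      (gam_exc_cub (Nat.one_le_pow _ _ h.v_prime.pos) g1 g2 g3) hlowM
    have h7 := List.all_eq_true.1 exc_psl x hx
    rw [Bool.and_eq_true, Bool.or_eq_true, Bool.or_eq_true, Bool.not_eq_true', Bool.not_eq_true'] at h7
    obtain ⟨h7, h8⟩ := h7
    obtain rfl : n = x.1 + 1 := by omega
    refine exc_end (K0 := 0) hq h hD hm hm2 (by norm_num) v1 v2 (Or.inl ?_)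
    rcases hjn with rfl | hj
    · rcases h8 with h8 | h8
      · rw [Nat.mod_eq_zero_of_dvd h3] at h8
        cases h8
      · exact ecQ_apply h8 h6 hq3 hq2
    · obtain rfl : j = x.1 := by omega
      rcases h7 with h7 | h7
      · rw [Nat.mod_eq_zero_of_dvd h3] at h7
        cases h7
      · exact ecQ_apply h7 h6 hq3 hq2

/-- unitary groups -/
theorem exc_psu_false {n m H' κ h0 h' e A B : ℕ} {c : ℤ} (h : Duel (.psu n) p f i j (.ominus m) v f' i' j' w H S)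
    (hD : Dirty (.psu n) p f i j (.ominus m) v f' i' j' H H' κ h0 h' e A B c) (h9 : 9 ≤ n) (hm : 6 ≤ m)
    (hm2 : m % 2 = 0) (hc : cls (.psu n) (p ^ f) v = 3) (h3 : 3 ∣ j)
    (g1 : 5 * (v ^ f') ^ 4 ≤ 2 * (f' * (c.natAbs + 29 * (A * κ))))
    (g2 : 25 * ttor (.psu n) (p ^ f) i ≤ 48 * (f' ^ 2 * (v ^ f') ^ 2 * (c.natAbs * κ + 24 * (B * κ * v ^ e))))
    (g3 : 3 * f' ^ 4 ≤ 2 * v ^ f') : False := by
  obtain ⟨hq3, hq2⟩ := f_q h.p_prime h.p_ne h.f_pos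
  have hpair := h.pair
  obtain ⟨ha1, ha2, hb1, hb2, hcc, hM1, hN1⟩ := hD.lnum.sz hq3
  have hA : A ≤ p ^ f + 1 := by exact_mod_cast ha2
  have hB : B ≤ p ^ f + 1 := by exact_mod_cast hb2
  have hC := lkC_lin hq3 (Or.inr rfl) hD.lk
  have hd := dgL_pos (t := .psu n) (q := p ^ f) (show 4 ≤ n by omega)
  have hκ := kap_psu hq3 hq2 h9 hD.smo hpair hD.κM
  have hjn : j = n ∨ j + 1 = n := by rcases hpair with h | h <;> omega
  obtain ⟨v1, v2, v3⟩ := v3_psu hq3 h9 h.v_prime hc hjn h3 hD.veN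
  have hdim : dimL (.psu n) = n - 1 := rfl
  have hlowM := hD.lnum.lowM
  rw [hdim] at hlowM
  have hlk := hD.lk
  obtain ⟨q, hq⟩ : ∃ q, q = p ^ f := ⟨_, rfl⟩
  rw [← hq] at hq3 hq2 hA hB hC hd hκ v2 v3 hlowM g2 hlk
  have hqq : q ≤ q ^ 2 := Nat.le_self_pow (by norm_num) q
  rcases Nat.eq_or_lt_of_le h9 with h9' | h10
  · -- rank nine
    subst h9'
    obtain rfl : j = 9 := by omega
    have hi : i = 8 := by rcases hpair with h | h <;> omega
    subst hi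
    obtain ⟨eA, eB⟩ := lkAB (Or.inr rfl) (by norm_num) rfl rfl hlk
    rw [eA] at g1
    rw [eB] at g2
    have hv7 : 7 ≤ v := by
      have := h.v_prime.one_lt
      omega
    have hV : v ^ e ≤ q ^ 2 - q + 1 := Nat.le_of_dvd (by omega) (cop_three h.v_prime v1 v3)
    have hBV : usg (.psu 9) q * v ^ e ≤ q ^ 3 + 1 := by
      calc usg (.psu 9) q * v ^ e ≤ (q + 1) * (q ^ 2 - q + 1) := Nat.mul_le_mul_left _ hV
        _ = q ^ 3 + 1 := by
          have : (q + 1) * (q ^ 2 - q + 1) + (q + 1) * q = (q + 1) * (q ^ 2 + 1) := by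
            rw [← Nat.mul_add]
            congr 1
            omega
          have h2 : (q + 1) * (q ^ 2 + 1) = q ^ 3 + 1 + (q + 1) * q := by ring
          omega
    obtain ⟨-, w2⟩ := val_psu (n := 9) (q := q) (by norm_num) (by omega)
    rw [if_neg (by norm_num)] at w2
    obtain ⟨k1, k2⟩ := endE9 hq3 hd h.f'_pos hv7 hC hBV hκ w2 g1 g2
    refine exc_end (K0 := 16) hq h hD hm hm2 (by norm_num) v1 v2 (Or.inr ⟨by omega, ?_⟩)
    exact ecNine_apply nine_psu k1 hq3 hq2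
  · have hV : 3 * v ^ e ≤ (q + 1) ^ 2 * (n - 1 + 1) := by
      have e1 : v ^ e ≤ (q ^ 2 - q + 1) * (j / 3) := Nat.le_of_dvd (Nat.mul_pos (by omega) (by omega)) v3
      calc 3 * v ^ e ≤ 3 * ((q ^ 2 - q + 1) * (j / 3)) := Nat.mul_le_mul_left _ e1
        _ = (q ^ 2 - q + 1) * (3 * (j / 3)) := by ring
        _ ≤ (q + 1) ^ 2 * (n - 1 + 1) := Nat.mul_le_mul (by
          have : (q + 1) ^ 2 = q ^ 2 + 2 * q + 1 := by ring
          omega) (by omega)
    have hsq : q ^ 2 - 1 ≤ (q + 1) ^ 2 := by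
      have : q ^ 2 ≤ (q + 1) ^ 2 := Nat.pow_le_pow_left (by omega) 2
      omega
    obtain ⟨x, hx, h5, h6⟩ := endE (r := n - 1) (by omega) hq3 hd hC hA hB (hκ.trans (Nat.mul_le_mul_right _ hsq)) hV
      (gam_exc_cub (Nat.one_le_pow _ _ h.v_prime.pos) g1 g2 g3) hlowM
    have h7 := List.all_eq_true.1 exc_psu x hx
    rw [Bool.and_eq_true, Bool.or_eq_true, Bool.or_eq_true, Bool.not_eq_true', Bool.not_eq_true'] at h7
    obtain ⟨h7, h8⟩ := h7
    obtain rfl : n = x.1 + 1 := by omega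
    refine exc_end (K0 := 0) hq h hD hm hm2 (by norm_num) v1 v2 (Or.inl ?_)
    rcases hjn with rfl | hj
    · rcases h8 with h8 | h8
      · rw [Nat.mod_eq_zero_of_dvd h3] at h8
        cases h8
      · exact ecQ_apply h8 h6 hq3 hq2
    · obtain rfl : j = x.1 := by omega
      rcases h7 with h7 | h7
      · rw [Nat.mod_eq_zero_of_dvd h3] at h7
        cases h7
      · exact ecQ_apply h7 h6 hq3 hq2

/-- orthogonal groups -/
theorem exc_orth_false {n m H' κ h0 h' e A B : ℕ} {c : ℤ} (ht : t = .oplus n ∨ t = .ominus n)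
    (h : Duel t p f i j (.ominus m) v f' i' j' w H S)
    (hD : Dirty t p f i j (.ominus m) v f' i' j' H H' κ h0 h' e A B c) (h7 : 7 ≤ n) (hn4 : n % 4 = 3) (hm : 6 ≤ m)
    (hm2 : m % 2 = 0) (hc : cls t (p ^ f) v = 4) (hj : j = 2 * (n - 1))
    (g1 : 5 * (v ^ f') ^ 4 ≤ 2 * (f' * (c.natAbs + 29 * (A * κ))))
    (g2 : 25 * ttor t (p ^ f) i ≤ 48 * (f' ^ 2 * (v ^ f') ^ 2 * (c.natAbs * κ + 24 * (B * κ * v ^ e))))
    (g3 : 3 * f' ^ 4 ≤ 2 * v ^ f') : False := by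
  obtain ⟨hq3, hq2⟩ := f_q h.p_prime h.p_ne h.f_pos
  have hpair := h.pair
  obtain ⟨ha1, ha2, hb1, hb2, hcc, hM1, hN1⟩ := hD.lnum.sz hq3
  have hA : A ≤ p ^ f + 1 := by exact_mod_cast ha2
  have hB : B ≤ p ^ f + 1 := by exact_mod_cast hb2
  have hC : c.natAbs ≤ (p ^ f + 1) ^ 2 := by
    rw [Int.abs_eq_natAbs] at hcc
    exact_mod_cast hcc
  have hlowM := hD.lnum.lowM
  have hsκ := hD.smo
  have hκM := hD.κM
  have hveN := hD.veN
  rw [hj] at hveN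
  obtain ⟨v1, v2, v3⟩ := v4_orth hq3 hq2 ht h7 hn4 h.v_prime hc hveN
  obtain ⟨q, hq⟩ : ∃ q, q = p ^ f := ⟨_, rfl⟩
  rw [← hq] at hq3 hq2 hA hB hC v2 v3 hlowM g2 hsκ hκM
  have hn2 : n % 2 = 1 := by omega
  have hV : 4 * v ^ e ≤ (q + 1) ^ 2 * (n - 1) := by
    have hq4 := mod_four_of_even (k := 2) hq2 rfl
    obtain ⟨z, hz⟩ : ∃ z, q ^ 2 + 1 = 2 * z := ⟨(q ^ 2 + 1) / 2, by omega⟩
    rw [hz] at v3
    have hcop : Nat.Coprime (v ^ e) 2 := by
      refine Nat.Coprime.pow_left e ?_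
      rw [Nat.coprime_primes h.v_prime Nat.prime_two]
      omega
    have e1 : v ^ e ∣ z * ((n - 1) / 2) := by
      rw [mul_assoc] at v3
      exact hcop.dvd_of_dvd_mul_left v3
    have e2 : v ^ e ≤ z * ((n - 1) / 2) := Nat.le_of_dvd (Nat.mul_pos (by omega) (by omega)) e1
    calc 4 * v ^ e ≤ 4 * (z * ((n - 1) / 2)) := Nat.mul_le_mul_left _ e2
      _ = (2 * z) * (2 * ((n - 1) / 2)) := by ring
      _ ≤ (q + 1) ^ 2 * (n - 1) := by
        rw [← hz]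
        refine Nat.mul_le_mul ?_ (by omega)
        have : (q + 1) ^ 2 = q ^ 2 + 2 * q + 1 := by ring
        omega
  have hcub := gam_exc_cub (Nat.one_le_pow _ _ h.v_prime.pos) g1 g2 g3
  rcases ht with rfl | rfl
  · have hi : i = n := by
      rcases hpair with ⟨-, h1 | h1⟩ | ⟨h1, -⟩ <;> omega
    subst hi
    obtain ⟨k1, -⟩ := sm_oplus_odd (n := i) hq3 hq2 (by omega) hn2 hsκ
    have hg := gcd_four_ge (m := q ^ i - 1) (by
      have := odd_pow_mod (n := i) hq2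
      have := Nat.one_le_pow i q (by omega)
      omega)
    have hκ : 2 * κ ≤ (q + 1) * i :=
      (Nat.mul_le_mul_right _ hg).trans ((k1 hκM).trans (Nat.mul_le_mul_right _ (by omega)))
    have hdim : dimL (.oplus i) = i := by rw [dimL, if_neg (by omega)]
    rw [hdim] at hlowM
    obtain ⟨x, hx, rfl, h6⟩ := endEO h7 hn2 hq3 hC hA hB hκ hV hcub hlowM
    have h8 := List.all_eq_true.1 exc_oplus x hx
    rw [Bool.or_eq_true, Bool.not_eq_true'] at h8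
    rcases h8 with h8 | h8
    · rw [hn4] at h8
      cases h8
    · refine exc_end (K0 := 0) hq h hD hm hm2 (by norm_num) v1 v2 (Or.inl ?_)
      rw [hj]
      exact ecQ_apply h8 h6 hq3 hq2
  · have hi : i = 2 * n := by
      rcases hpair with h1 | h1 <;> omega
    subst hi
    obtain ⟨k1, -⟩ := sm_ominus_odd (n := n) hq3 hq2 (by omega) hn2 hsκ
    have hg := gcd_four_ge (m := q ^ n + 1) (by
      have := odd_pow_mod (n := n) hq2
      omega)
    have hκ : 2 * κ ≤ (q + 1) * n := (Nat.mul_le_mul_right _ hg).trans (k1 hκM)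
    obtain ⟨x, hx, rfl, h6⟩ := endEO h7 hn2 hq3 hC hA hB hκ hV hcub hlowM
    have h8 := List.all_eq_true.1 exc_ominus x hx
    rw [Bool.or_eq_true, Bool.not_eq_true'] at h8
    rcases h8 with h8 | h8
    · rw [hn4] at h8
      cases h8
    · refine exc_end (K0 := 0) hq h hD hm hm2 (by norm_num) v1 v2 (Or.inl ?_)
      rw [hj]
      exact ecQ_apply h8 h6 hq3 hq2

end Cfsg.Agent.R2.Spec.Gamma
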