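import Mathlib.NumberTheory.Multiplicity
import Mathlib.NumberTheory.Padics.PadicVal.Basic
import Mathlib.Tactic

/-!
# Packet GAMMA (helper28): the smooth parts of `q ^ k ∓ 1`

`Smo y B` : all primes of `y` divide `B`.
* `smo_sub_odd` : `y ∣ q ^ k - 1`, `k` odd, `Smo y (q ^ 2 - 1)` : `y ∣ (q - 1) * k`;
* `smo_add_odd` : `y ∣ q ^ k + 1`, `k` odd : `y ∣ (q + 1) * k`;
* `smo_sub_even` : `y ∣ q ^ k - 1`, `k` even : `y ∣ (q ^ 2 - 1) * (k / 2)`;
* `smo_add_even` : `y ∣ (q ^ k + 1) * z`, `k` even : `y ∣ 2 * z`.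
-/

set_option autoImplicit false

namespace Cfsg.Agent.R2.Spec.Gamma

/-- all primes of `y` divide `B` -/
def Smo (y B : ℕ) : Prop := ∀ s : ℕ, s.Prime → s ∣ y → s ∣ B

theorem Smo.dvd {y z B : ℕ} (h : Smo y B) (hz : z ∣ y) : Smo z B := fun s hs hd => h s hs (hd.trans hz)

theorem Smo.mul {y z B : ℕ} (h : Smo y B) (hz : Smo z B) : Smo (y * z) B := fun s hs hd => by
  rcases hs.dvd_mul.1 hd with h1 | h1
  · exact h s hs h1
  · exact hz s hs h1

theorem Smo.of_dvd {z B : ℕ} (hz : z ∣ B) : Smo z B := fun _ _ hd => hd.trans hz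

theorem dvd_of_val {y z : ℕ} (hy : y ≠ 0) (hz : z ≠ 0)
    (h : ∀ s, s.Prime → s ∣ y → padicValNat s y ≤ padicValNat s z) : y ∣ z := by
  rw [← Nat.factorization_prime_le_iff_dvd hy hz]
  intro s hs
  rw [Nat.factorization_def _ hs, Nat.factorization_def _ hs]
  by_cases h1 : s ∣ y
  · exact h s hs h1
  · rw [padicValNat.eq_zero_of_not_dvd h1]
    exact Nat.zero_le _

theorem val_le_of_dvd {s y z : ℕ} (hs : s.Prime) (hz : z ≠ 0) (h : y ∣ z) : padicValNat s y ≤ padicValNat s z := by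
  have := Fact.mk hs
  exact (padicValNat_dvd_iff_le hz).1 ((pow_padicValNat_dvd).trans h)

theorem sq_sub_one {q : ℕ} : q ^ 2 - 1 = (q + 1) * (q - 1) := by
  have := Nat.sq_sub_sq q 1
  rwa [one_pow] at this

theorem sub_one_mul {q k : ℕ} (hq : 1 ≤ q) (hk : 1 ≤ k) : q ^ k - 1 = q * (q ^ (k - 1) - 1) + (q - 1) := by
  have h1 := Nat.one_le_pow (k - 1) q hq
  obtain ⟨x, hx⟩ : ∃ x, q ^ (k - 1) = x + 1 := ⟨q ^ (k - 1) - 1, by omega⟩
  have h2 : q ^ k = q * q ^ (k - 1) := by rw [← pow_succ']; congr 1; omega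
  rw [h2, hx, Nat.add_sub_cancel, Nat.mul_add]
  omega

theorem add_one_mul {q k : ℕ} (hq : 1 ≤ q) (hk : 1 ≤ k) : q ^ k + 1 = q * (q ^ (k - 1) - 1) + (q + 1) := by
  have h1 := Nat.one_le_pow (k - 1) q hq
  obtain ⟨x, hx⟩ : ∃ x, q ^ (k - 1) = x + 1 := ⟨q ^ (k - 1) - 1, by omega⟩
  have h2 : q ^ k = q * q ^ (k - 1) := by rw [← pow_succ']; congr 1; omega
  rw [h2, hx, Nat.add_sub_cancel, Nat.mul_add]
  omega

theorem sq_dvd_even {q m : ℕ} (hm : m % 2 = 0) : q ^ 2 - 1 ∣ q ^ m - 1 := by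
  obtain ⟨r, rfl⟩ : ∃ r, m = 2 * r := ⟨m / 2, by omega⟩
  rw [pow_mul]
  exact Nat.sub_one_dvd_pow_sub_one (q ^ 2) r

theorem pow_sub_ne {q k : ℕ} (hq : 2 ≤ q) (hk : 1 ≤ k) : q ^ k - 1 ≠ 0 := by
  have := Nat.le_self_pow (show k ≠ 0 by omega) q
  omega

/-- the `2`-adic valuation -/
theorem val_two {q k : ℕ} (hq : 3 ≤ q) (hq2 : q % 2 = 1) (hk : k % 2 = 1) :
    padicValNat 2 (q ^ k - 1) ≤ padicValNat 2 ((q - 1) * k) ∧
      padicValNat 2 (q ^ k + 1) ≤ padicValNat 2 ((q + 1) * k) := by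
  have h2 := Fact.mk Nat.prime_two
  have hk0 : k ≠ 0 := by omega
  have h1 := padicValNat.pow_two_sub_one (x := q) (n := 2 * k) (by omega) (by omega) (by omega) ⟨k, by ring⟩
  have e1 : q ^ (2 * k) - 1 = (q ^ k + 1) * (q ^ k - 1) := by
    have := Nat.sq_sub_sq (q ^ k) 1
    rw [one_pow] at this
    rw [mul_comm 2 k, pow_mul]
    exact this
  have n1 := pow_sub_ne (q := q) (k := k) (by omega) (by omega)
  have e2 : padicValNat 2 (2 * k) = 1 + padicValNat 2 k := by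
    rw [padicValNat.mul (by norm_num) hk0, padicValNat.self (by norm_num)]
  have e3 : padicValNat 2 ((q - 1) * k) = padicValNat 2 (q - 1) + padicValNat 2 k :=
    padicValNat.mul (by omega) hk0
  have e4 : padicValNat 2 ((q + 1) * k) = padicValNat 2 (q + 1) + padicValNat 2 k :=
    padicValNat.mul (by omega) hk0
  rw [e1, padicValNat.mul (by omega) n1, e2] at h1
  have h3 : padicValNat 2 (q + 1) ≤ padicValNat 2 (q ^ k + 1) := by
    refine val_le_of_dvd Nat.prime_two (by omega) ?_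
    have := Odd.nat_add_dvd_pow_add_pow q 1 (n := k) (Nat.odd_iff.2 hk)
    rwa [one_pow] at this
  have h4 : padicValNat 2 (q - 1) ≤ padicValNat 2 (q ^ k - 1) :=
    val_le_of_dvd Nat.prime_two n1 (Nat.sub_one_dvd_pow_sub_one q k)
  rw [e3, e4]
  omega

theorem smo_sub_odd {q k y : ℕ} (hq : 3 ≤ q) (hq2 : q % 2 = 1) (hk : k % 2 = 1) (hy : y ∣ q ^ k - 1)
    (hs : Smo y (q ^ 2 - 1)) : y ∣ (q - 1) * k := by
  have n1 := pow_sub_ne (q := q) (k := k) (by omega) (by omega)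
  have hk0 : k ≠ 0 := by omega
  have hy0 : y ≠ 0 := by
    rintro rfl
    exact n1 (Nat.eq_zero_of_zero_dvd hy)
  refine dvd_of_val hy0 (Nat.mul_ne_zero (by omega) hk0) fun s hsp hsy => ?_
  have hf := Fact.mk hsp
  refine (val_le_of_dvd hsp n1 hy).trans ?_
  rcases hsp.eq_two_or_odd' with rfl | hodd
  · exact (val_two hq hq2 hk).1
  have h1 : s ∣ q - 1 := by
    have h2 := (hs s hsp hsy).trans (sq_dvd_even (q := q) (m := k - 1) (by omega))
    have h3 := hsy.trans hy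
    rw [sub_one_mul (by omega) (by omega)] at h3
    exact (Nat.dvd_add_right (Dvd.dvd.mul_left h2 _)).1 h3
  have h2 : ¬ s ∣ q := by
    intro h3
    have h4 : s ∣ 1 := by
      have := (Nat.dvd_sub h3 h1)
      rwa [show q - (q - 1) = 1 by omega] at this
    exact hsp.one_lt.ne' (Nat.dvd_one.1 h4)
  have h3 := padicValNat.pow_sub_pow (p := s) (x := q) (y := 1) hodd (by omega) h1 h2 hk0
  rw [one_pow] at h3
  rw [h3, padicValNat.mul (by omega) hk0]

theorem smo_add_odd {q k y : ℕ} (hq : 3 ≤ q) (hq2 : q % 2 = 1) (hk : k % 2 = 1) (hy : y ∣ q ^ k + 1)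
    (hs : Smo y (q ^ 2 - 1)) : y ∣ (q + 1) * k := by
  have hk0 : k ≠ 0 := by omega
  have hy0 : y ≠ 0 := by
    rintro rfl
    exact absurd (Nat.eq_zero_of_zero_dvd hy) (by omega)
  refine dvd_of_val hy0 (Nat.mul_ne_zero (by omega) hk0) fun s hsp hsy => ?_
  have hf := Fact.mk hsp
  refine (val_le_of_dvd hsp (by omega) hy).trans ?_
  rcases hsp.eq_two_or_odd' with rfl | hodd
  · exact (val_two hq hq2 hk).2
  have h1 : s ∣ q + 1 := by
    have h2 := (hs s hsp hsy).trans (sq_dvd_even (q := q) (m := k - 1) (by omega))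
    have h3 := hsy.trans hy
    rw [add_one_mul (by omega) (by omega)] at h3
    exact (Nat.dvd_add_right (Dvd.dvd.mul_left h2 _)).1 h3
  have h2 : ¬ s ∣ q := by
    intro h3
    exact hsp.one_lt.ne' (Nat.dvd_one.1 ((Nat.dvd_add_right h3).1 h1))
  have h3 := padicValNat.pow_add_pow (p := s) (x := q) (y := 1) hodd h1 h2 (n := k) (Nat.odd_iff.2 hk)
  rw [one_pow] at h3
  rw [h3, padicValNat.mul (by omega) hk0]

theorem smo_sub_even {q k y : ℕ} (hq : 3 ≤ q) (hq2 : q % 2 = 1) (hk0 : k ≠ 0) (hk : k % 2 = 0) (hy : y ∣ q ^ k - 1)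
    (hs : Smo y (q ^ 2 - 1)) : y ∣ (q ^ 2 - 1) * (k / 2) := by
  have n1 := pow_sub_ne (q := q) (k := k) (by omega) (by omega)
  have n2 := pow_sub_ne (q := q) (k := 2) (by omega) (by omega)
  have hk2 : k / 2 ≠ 0 := by omega
  have hkk : k = 2 * (k / 2) := by omega
  have hy0 : y ≠ 0 := by
    rintro rfl
    exact n1 (Nat.eq_zero_of_zero_dvd hy)
  refine dvd_of_val hy0 (Nat.mul_ne_zero n2 hk2) fun s hsp hsy => ?_
  have hf := Fact.mk hsp
  refine (val_le_of_dvd hsp n1 hy).trans ?_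
  rw [padicValNat.mul n2 hk2]
  rcases hsp.eq_two_or_odd' with rfl | hodd
  · have h1 := padicValNat.pow_two_sub_one (x := q) (n := k) (by omega) (by omega) hk0 ⟨k / 2, by omega⟩
    have e2 : padicValNat 2 k = 1 + padicValNat 2 (k / 2) := by
      conv_lhs => rw [hkk]
      rw [padicValNat.mul (by norm_num) hk2, padicValNat.self (by norm_num)]
    rw [sq_sub_one, padicValNat.mul (by omega) (by omega)]
    omega
  have h1 := hs s hsp hsy
  have h2 : ¬ s ∣ q ^ 2 := by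
    intro h3
    have h4 : s ∣ 1 := by
      have := (Nat.dvd_sub h3 h1)
      rwa [show q ^ 2 - (q ^ 2 - 1) = 1 by omega] at this
    exact hsp.one_lt.ne' (Nat.dvd_one.1 h4)
  have h3 := padicValNat.pow_sub_pow (p := s) (x := q ^ 2) (y := 1) hodd (by omega) h1 h2 hk2
  rw [one_pow, ← pow_mul, ← hkk] at h3
  rw [h3]

theorem mod_four_of_even {q k : ℕ} (hq2 : q % 2 = 1) (hk : k % 2 = 0) : q ^ k % 4 = 1 := by
  obtain ⟨r, rfl⟩ : ∃ r, k = 2 * r := ⟨k / 2, by omega⟩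
  rw [pow_mul, Nat.pow_mod]
  have h1 : q ^ 2 % 4 = 1 := by
    rw [Nat.pow_mod]
    have h2 : q % 4 = 1 ∨ q % 4 = 3 := by omega
    rcases h2 with h2 | h2 <;> rw [h2]
  rw [h1, one_pow]
  rfl

theorem smo_add_even {q k y z : ℕ} (hq : 3 ≤ q) (hq2 : q % 2 = 1) (hk : k % 2 = 0) (hy : y ∣ (q ^ k + 1) * z)
    (hs : Smo y (q ^ 2 - 1)) : y ∣ 2 * z := by
  have h4 := mod_four_of_even hq2 hk
  obtain ⟨r, hr⟩ : ∃ r, q ^ k + 1 = 2 * r := ⟨(q ^ k + 1) / 2, by omega⟩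
  have hr2 : r % 2 = 1 := by omega
  have hcop : Nat.Coprime y r := by
    by_contra hcon
    obtain ⟨s, hsp, hsg⟩ := Nat.exists_prime_and_dvd hcon
    have h5 := (hs s hsp (hsg.trans (Nat.gcd_dvd_left _ _))).trans (sq_dvd_even (q := q) hk)
    have h6 : s ∣ q ^ k + 1 := by rw [hr]; exact Dvd.dvd.mul_left (hsg.trans (Nat.gcd_dvd_right _ _)) _
    have h7 : s ∣ 2 := by
      have := Nat.dvd_sub h6 h5
      have h8 := Nat.one_le_pow k q (by omega)
      rwa [show q ^ k + 1 - (q ^ k - 1) = 2 by omega] at this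
    obtain rfl := (Nat.prime_dvd_prime_iff_eq hsp Nat.prime_two).1 h7
    have h8 : 2 ∣ r := hsg.trans (Nat.gcd_dvd_right _ _)
    omega
  rw [hr, show 2 * r * z = r * (2 * z) by ring] at hy
  exact hcop.dvd_of_dvd_mul_left hy

end Cfsg.Agent.R2.Spec.Gamma
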