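import Cfsg.Agent.R2.Spec.E.RelO
import Cfsg.Agent.R2.Spec.Gamma.Lte

/-!
# Packet GAMMA (helper28): the smooth parts of the isolated numbers of `L`
-/

set_option autoImplicit false

namespace Cfsg.Agent.R2.Spec.Gamma

open Cfsg Cfsg.Agent.H426.LieFam Cfsg.Agent.R2.Spec Cfsg.Agent.R2.Spec.P1 Cfsg.Agent.R2.Spec.E

theorem sub_dvd_sq {q : ℕ} : q - 1 ∣ q ^ 2 - 1 := by
  rw [sq_sub_one]
  exact Dvd.intro_left _ rfl

theorem add_dvd_sq {q : ℕ} : q + 1 ∣ q ^ 2 - 1 := by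
  rw [sq_sub_one]
  exact Dvd.intro _ rfl

theorem two_dvd_sq {q : ℕ} (hq2 : q % 2 = 1) : 2 ∣ q ^ 2 - 1 := by
  rw [sq_sub_one]
  exact Dvd.dvd.mul_right (by omega) _

/-- cancellation: `y * (d * x) ∣ x * z` -/
theorem cancel_le {y d x z : ℕ} (hx : 0 < x) (hz : 0 < z) (h : y * (d * x) ∣ x * z) : d * y ≤ z := by
  rw [show y * (d * x) = x * (d * y) by ring] at h
  exact Nat.le_of_dvd hz (Nat.dvd_of_mul_dvd_mul_left hx h)

theorem half_le {k z : ℕ} {a : ℕ} (h : a ≤ z * (k / 2)) : 2 * a ≤ z * k := by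
  calc 2 * a ≤ 2 * (z * (k / 2)) := Nat.mul_le_mul_left _ h
    _ = z * (2 * (k / 2)) := by ring
    _ ≤ z * k := Nat.mul_le_mul_left _ (by omega)

theorem sm_psl {n q y : ℕ} (hq : 3 ≤ q) (hq2 : q % 2 = 1) (hn : 3 ≤ n) (hs : Smo y (q ^ 2 - 1)) :
    (n % 2 = 1 → y ∣ ttor (.psl n) q n → Nat.gcd n (q - 1) * y ≤ n) ∧
      (n % 2 = 0 → y ∣ ttor (.psl n) q n → 2 * (Nat.gcd n (q - 1) * y) ≤ (q + 1) * n) ∧
      (n % 2 = 1 → y ∣ ttor (.psl n) q (n - 1) → 2 * (Nat.gcd n (q - 1) * y) ≤ (q ^ 2 - 1) * (n - 1)) ∧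
      (n % 2 = 0 → y ∣ ttor (.psl n) q (n - 1) → Nat.gcd n (q - 1) * y ≤ (q - 1) * (n - 1)) := by
  obtain ⟨h1, h2⟩ := val_psl (n := n) (q := q) (by omega) (by omega)
  have hd : Nat.gcd n (q - 1) ∣ q ^ 2 - 1 := (Nat.gcd_dvd_right _ _).trans sub_dvd_sq
  have s1 : Smo (y * (Nat.gcd n (q - 1) * (q - 1))) (q ^ 2 - 1) :=
    hs.mul ((Smo.of_dvd hd).mul (Smo.of_dvd sub_dvd_sq))
  have s2 : Smo (y * Nat.gcd n (q - 1)) (q ^ 2 - 1) := hs.mul (Smo.of_dvd hd)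
  have hq1 : 0 < q ^ 2 - 1 := by rw [sq_sub_one]; exact Nat.mul_pos (by omega) (by omega)
  refine ⟨fun ho hy => ?_, fun he hy => ?_, fun ho hy => ?_, fun he hy => ?_⟩
  · have h3 : y * (Nat.gcd n (q - 1) * (q - 1)) ∣ q ^ n - 1 := by rw [← h1]; exact Nat.mul_dvd_mul_right hy _
    exact cancel_le (by omega) (by omega) (smo_sub_odd hq hq2 ho h3 s1)
  · have h3 : y * (Nat.gcd n (q - 1) * (q - 1)) ∣ q ^ n - 1 := by rw [← h1]; exact Nat.mul_dvd_mul_right hy _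
    have h4 := smo_sub_even hq hq2 (by omega) he h3 s1
    rw [sq_sub_one, show (q + 1) * (q - 1) * (n / 2) = (q - 1) * ((q + 1) * (n / 2)) by ring] at h4
    exact half_le (cancel_le (by omega) (Nat.mul_pos (by omega) (by omega)) h4)
  · have h3 : y * Nat.gcd n (q - 1) ∣ q ^ (n - 1) - 1 := by rw [← h2]; exact Nat.mul_dvd_mul_right hy _
    have h4 := smo_sub_even hq hq2 (by omega) (by omega) h3 s2
    rw [mul_comm y] at h4
    exact half_le (Nat.le_of_dvd (Nat.mul_pos hq1 (by omega)) h4)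
  · have h3 : y * Nat.gcd n (q - 1) ∣ q ^ (n - 1) - 1 := by rw [← h2]; exact Nat.mul_dvd_mul_right hy _
    have h4 := smo_sub_odd hq hq2 (by omega) h3 s2
    rw [mul_comm y] at h4
    exact Nat.le_of_dvd (Nat.mul_pos (by omega) (by omega)) h4

theorem sm_psu {n q y : ℕ} (hq : 3 ≤ q) (hq2 : q % 2 = 1) (hn : 3 ≤ n) (hs : Smo y (q ^ 2 - 1)) :
    (n % 2 = 1 → y ∣ ttor (.psu n) q n → Nat.gcd n (q + 1) * y ≤ n) ∧
      (n % 2 = 0 → y ∣ ttor (.psu n) q n → 2 * (Nat.gcd n (q + 1) * y) ≤ (q - 1) * n) ∧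
      (n % 2 = 1 → y ∣ ttor (.psu n) q (n - 1) → 2 * (Nat.gcd n (q + 1) * y) ≤ (q ^ 2 - 1) * (n - 1)) ∧
      (n % 2 = 0 → y ∣ ttor (.psu n) q (n - 1) → Nat.gcd n (q + 1) * y ≤ (q + 1) * (n - 1)) := by
  obtain ⟨h1, h2⟩ := val_psu (n := n) (q := q) (by omega) (by omega)
  have hd : Nat.gcd n (q + 1) ∣ q ^ 2 - 1 := (Nat.gcd_dvd_right _ _).trans add_dvd_sq
  have s1 : Smo (y * (Nat.gcd n (q + 1) * (q + 1))) (q ^ 2 - 1) :=
    hs.mul ((Smo.of_dvd hd).mul (Smo.of_dvd add_dvd_sq))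
  have s2 : Smo (y * Nat.gcd n (q + 1)) (q ^ 2 - 1) := hs.mul (Smo.of_dvd hd)
  have hq1 : 0 < q ^ 2 - 1 := by rw [sq_sub_one]; exact Nat.mul_pos (by omega) (by omega)
  refine ⟨fun ho hy => ?_, fun he hy => ?_, fun ho hy => ?_, fun he hy => ?_⟩
  · rw [if_neg (by omega)] at h1
    have h3 : y * (Nat.gcd n (q + 1) * (q + 1)) ∣ q ^ n + 1 := by rw [← h1]; exact Nat.mul_dvd_mul_right hy _
    exact cancel_le (by omega) (by omega) (smo_add_odd hq hq2 ho h3 s1)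
  · rw [if_pos he] at h1
    have h3 : y * (Nat.gcd n (q + 1) * (q + 1)) ∣ q ^ n - 1 := by rw [← h1]; exact Nat.mul_dvd_mul_right hy _
    have h4 := smo_sub_even hq hq2 (by omega) he h3 s1
    rw [sq_sub_one, show (q + 1) * (q - 1) * (n / 2) = (q + 1) * ((q - 1) * (n / 2)) by ring] at h4
    exact half_le (cancel_le (by omega) (Nat.mul_pos (by omega) (by omega)) h4)
  · rw [if_neg (by omega)] at h2
    have h3 : y * Nat.gcd n (q + 1) ∣ q ^ (n - 1) - 1 := by rw [← h2]; exact Nat.mul_dvd_mul_right hy _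
    have h4 := smo_sub_even hq hq2 (by omega) (by omega) h3 s2
    rw [mul_comm y] at h4
    exact half_le (Nat.le_of_dvd (Nat.mul_pos hq1 (by omega)) h4)
  · rw [if_pos he] at h2
    have h3 : y * Nat.gcd n (q + 1) ∣ q ^ (n - 1) + 1 := by rw [← h2]; exact Nat.mul_dvd_mul_right hy _
    have h4 := smo_add_odd hq hq2 (by omega) h3 s2
    rw [mul_comm y] at h4
    exact Nat.le_of_dvd (Nat.mul_pos (by omega) (by omega)) h4

theorem smo_two {y B : ℕ} (hB : 2 ∣ B) (hs : Smo y B) : Smo (y * 2) B := hs.mul (Smo.of_dvd hB)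

/-- `(q ^ n - 1) / 2`, `(q ^ n + 1) / 2`, `n` odd -/
theorem sm_psp {n q y : ℕ} (hq : 3 ≤ q) (hq2 : q % 2 = 1) (hn : 1 ≤ n) (hn2 : n % 2 = 1) (hs : Smo y (q ^ 2 - 1)) :
    (y ∣ ttor (.psp n) q n → 2 * y ≤ (q - 1) * n) ∧ (y ∣ ttor (.psp n) q (2 * n) → 2 * y ≤ (q + 1) * n) := by
  obtain ⟨h1, h2⟩ := val_psp (n := n) (q := q) (by omega) (by omega)
  rw [gcd_two_odd hq2] at h1 h2
  have s := smo_two (two_dvd_sq hq2) hs
  constructor
  · intro hy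
    have h3 : y * 2 ∣ q ^ n - 1 := by rw [← h2]; exact Nat.mul_dvd_mul_right hy _
    have h4 := Nat.le_of_dvd (Nat.mul_pos (by omega) (by omega)) (smo_sub_odd hq hq2 hn2 h3 s)
    omega
  · intro hy
    have h3 : y * 2 ∣ q ^ n + 1 := by rw [← h1]; exact Nat.mul_dvd_mul_right hy _
    have h4 := Nat.le_of_dvd (Nat.mul_pos (by omega) (by omega)) (smo_add_odd hq hq2 hn2 h3 s)
    omega

theorem sm_oplus_even {n q y : ℕ} (hq : 3 ≤ q) (hq2 : q % 2 = 1) (hn : 4 ≤ n) (hn2 : n % 2 = 0)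
    (hs : Smo y (q ^ 2 - 1)) :
    (y ∣ ttor (.oplus n) q (n - 1) → 2 * y ≤ (q - 1) * (n - 1)) ∧
      (y ∣ ttor (.oplus n) q (2 * (n - 1)) → 2 * y ≤ (q + 1) * (n - 1)) := by
  obtain ⟨h1, h2⟩ := val_oplus_even (n := n) (q := q) hn hn2 (by omega)
  rw [gcd_two_odd hq2] at h1 h2
  have s := smo_two (two_dvd_sq hq2) hs
  constructor
  · intro hy
    have h3 : y * 2 ∣ q ^ (n - 1) - 1 := by rw [← h2]; exact Nat.mul_dvd_mul_right hy _
    have h4 := Nat.le_of_dvd (Nat.mul_pos (by omega) (by omega)) (smo_sub_odd hq hq2 (by omega) h3 s)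
    omega
  · intro hy
    have h3 : y * 2 ∣ q ^ (n - 1) + 1 := by rw [← h1]; exact Nat.mul_dvd_mul_right hy _
    have h4 := Nat.le_of_dvd (Nat.mul_pos (by omega) (by omega)) (smo_add_odd hq hq2 (by omega) h3 s)
    omega

theorem gcd_four_smo {q m : ℕ} (hq2 : q % 2 = 1) : Smo (Nat.gcd 4 m) (q ^ 2 - 1) := by
  have h1 : Smo 4 (q ^ 2 - 1) := by
    have := (Smo.of_dvd (two_dvd_sq hq2)).mul (Smo.of_dvd (two_dvd_sq hq2))
    exact this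
  exact h1.dvd (Nat.gcd_dvd_left _ _)

theorem gcd_four_ge {m : ℕ} (hm : m % 2 = 0) : 2 ≤ Nat.gcd 4 m := by
  have h1 : 2 ∣ Nat.gcd 4 m := Nat.dvd_gcd (by norm_num) (by omega)
  exact Nat.le_of_dvd (Nat.gcd_pos_of_pos_left _ (by norm_num)) h1

theorem odd_pow_mod {q n : ℕ} (hq2 : q % 2 = 1) : q ^ n % 2 = 1 := by
  rw [Nat.pow_mod, hq2, one_pow]
  rfl

/-- `POmega+`, `n` odd: `g y ≤ (q - 1) n`, `g y ≤ 2 (q + 1)` -/
theorem sm_oplus_odd {n q y : ℕ} (hq : 3 ≤ q) (hq2 : q % 2 = 1) (hn : 4 ≤ n) (hn2 : n % 2 = 1)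
    (hs : Smo y (q ^ 2 - 1)) :
    (y ∣ ttor (.oplus n) q n → Nat.gcd 4 (q ^ n - 1) * y ≤ (q - 1) * n) ∧
      (y ∣ ttor (.oplus n) q (2 * (n - 1)) → Nat.gcd 4 (q ^ n - 1) * y ≤ 2 * (q + 1)) := by
  obtain ⟨h1, h2⟩ := val_oplus_odd (n := n) (q := q) (by omega) hn2 (by omega)
  have s : Smo (y * Nat.gcd 4 (q ^ n - 1)) (q ^ 2 - 1) := hs.mul (gcd_four_smo hq2)
  constructor
  · intro hy
    have h3 : y * Nat.gcd 4 (q ^ n - 1) ∣ q ^ n - 1 := by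
      conv_rhs => rw [← h1]
      exact Nat.mul_dvd_mul_right hy _
    have h4 := Nat.le_of_dvd (Nat.mul_pos (by omega) (by omega)) (smo_sub_odd hq hq2 hn2 h3 s)
    rwa [mul_comm y] at h4
  · intro hy
    have h3 : y * Nat.gcd 4 (q ^ n - 1) ∣ (q ^ (n - 1) + 1) * (q + 1) := by
      rw [← h2]
      exact Nat.mul_dvd_mul_right hy _
    have h4 := Nat.le_of_dvd (by omega) (smo_add_even hq hq2 (by omega) h3 s)
    rwa [mul_comm y] at h4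

/-- `POmega-`, `n` odd -/
theorem sm_ominus_odd {n q y : ℕ} (hq : 3 ≤ q) (hq2 : q % 2 = 1) (hn : 4 ≤ n) (hn2 : n % 2 = 1)
    (hs : Smo y (q ^ 2 - 1)) :
    (y ∣ ttor (.ominus n) q (2 * n) → Nat.gcd 4 (q ^ n + 1) * y ≤ (q + 1) * n) ∧
      (y ∣ ttor (.ominus n) q (2 * (n - 1)) → Nat.gcd 4 (q ^ n + 1) * y ≤ 2 * (q - 1)) := by
  obtain ⟨h1, h2, -⟩ := val_ominus (n := n) (q := q) (by omega) (by omega)
  have s : Smo (y * Nat.gcd 4 (q ^ n + 1)) (q ^ 2 - 1) := hs.mul (gcd_four_smo hq2)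
  constructor
  · intro hy
    have h3 : y * Nat.gcd 4 (q ^ n + 1) ∣ q ^ n + 1 := by
      conv_rhs => rw [← h1]
      exact Nat.mul_dvd_mul_right hy _
    have h4 := Nat.le_of_dvd (Nat.mul_pos (by omega) (by omega)) (smo_add_odd hq hq2 hn2 h3 s)
    rwa [mul_comm y] at h4
  · intro hy
    have h3 : y * Nat.gcd 4 (q ^ n + 1) ∣ (q ^ (n - 1) + 1) * (q - 1) := by
      rw [← h2]
      exact Nat.mul_dvd_mul_right hy _
    have h4 := Nat.le_of_dvd (by omega) (smo_add_even hq hq2 (by omega) h3 s)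
    rwa [mul_comm y] at h4

/-- `POmega-`, `n` even: the first number is prime to `q ^ 2 - 1` -/
theorem sm_ominus_even {n q y : ℕ} (hq : 3 ≤ q) (hq2 : q % 2 = 1) (hn : 4 ≤ n) (hn2 : n % 2 = 0)
    (hs : Smo y (q ^ 2 - 1)) (hy : y ∣ ttor (.ominus n) q (2 * n)) : y = 1 := by
  obtain ⟨h1, -, -⟩ := val_ominus (n := n) (q := q) (by omega) (by omega)
  have s : Smo (y * Nat.gcd 4 (q ^ n + 1)) (q ^ 2 - 1) := hs.mul (gcd_four_smo hq2)
  have h2 := gcd_four_ge (m := q ^ n + 1) (by have := odd_pow_mod (n := n) hq2; omega)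
  have h3 : y * Nat.gcd 4 (q ^ n + 1) ∣ (q ^ n + 1) * 1 := by
    rw [mul_one]
    conv_rhs => rw [← h1]
    exact Nat.mul_dvd_mul_right hy _
  have h4 := Nat.le_of_dvd (by omega) (smo_add_even hq hq2 hn2 h3 s)
  have hy0 : y ≠ 0 := by
    rintro rfl
    have h5 := Nat.eq_zero_of_zero_dvd hy
    rw [h5, zero_mul] at h1
    omega
  have h5 : y * 2 ≤ y * Nat.gcd 4 (q ^ n + 1) := Nat.mul_le_mul_left _ h2
  omega

end Cfsg.Agent.R2.Spec.Gamma
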