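import Cfsg.Agent.R2.Spec.E.IsoOne
import Cfsg.Agent.R2.Spec.Gamma.Num
import Cfsg.Agent.R2.Spec.Gamma.Lte

/-!
# Packet GAMMA (helper28): the dirty cofactor, the general inequality
-/

set_option autoImplicit false
set_option linter.unusedSectionVars false

namespace Cfsg.Agent.R2.Spec.Gamma

open Cfsg Cfsg.Agent.H426.LieFam Cfsg.Agent.R2.Spec Cfsg.Agent.R2.Spec.P1 Cfsg.Agent.R2.Spec.F1 Cfsg.Agent.R2.Spec.E

universe u

theorem raw_lin {u f κ V a b C C' d H H' P Q h0 h1 A' B' : ℕ} (hd : d * C' ≤ u + 1) (hC' : 1 ≤ C')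
    (hh0 : h0 ≤ 2 * d * f) (hh1 : h1 ≤ 2 * d * f) (hH : H ≤ h0 * κ) (hH' : H' ≤ h1 * V) (hA : A' ≤ u + 1)
    (hB : B' ≤ u + 1) (hQ : Q ≤ A' * C + a * H * C') (hP : P ≤ B' * C + b * H' * C') :
    Q ≤ (u + 1) * C + 2 * f * (u + 1) * (a * κ) ∧ H * P ≤ 2 * f * (u + 1) ^ 2 * κ * (C + 2 * f * b * V) := by
  have hdu : d ≤ u + 1 := (Nat.le_mul_of_pos_right d hC').trans hd
  have e1 : H * C' ≤ 2 * f * (u + 1) * κ := by
    calc H * C' ≤ (h0 * κ) * C' := Nat.mul_le_mul_right _ hH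
      _ ≤ ((2 * d * f) * κ) * C' := Nat.mul_le_mul_right _ (Nat.mul_le_mul_right _ hh0)
      _ = (2 * f * κ) * (d * C') := by ring
      _ ≤ (2 * f * κ) * (u + 1) := Nat.mul_le_mul_left _ hd
      _ = _ := by ring
  have e2 : H' * C' ≤ 2 * f * (u + 1) * V := by
    calc H' * C' ≤ (h1 * V) * C' := Nat.mul_le_mul_right _ hH'
      _ ≤ ((2 * d * f) * V) * C' := Nat.mul_le_mul_right _ (Nat.mul_le_mul_right _ hh1)
      _ = (2 * f * V) * (d * C') := by ring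
      _ ≤ (2 * f * V) * (u + 1) := Nat.mul_le_mul_left _ hd
      _ = _ := by ring
  have e3 : H ≤ 2 * f * (u + 1) * κ := by
    calc H ≤ h0 * κ := hH
      _ ≤ (2 * d * f) * κ := Nat.mul_le_mul_right _ hh0
      _ ≤ (2 * (u + 1) * f) * κ := Nat.mul_le_mul_right _ (Nat.mul_le_mul_right _ (Nat.mul_le_mul_left _ hdu))
      _ = _ := by ring
  constructor
  · calc Q ≤ A' * C + a * H * C' := hQ
      _ = A' * C + a * (H * C') := by ring
      _ ≤ (u + 1) * C + a * (2 * f * (u + 1) * κ) :=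
        Nat.add_le_add (Nat.mul_le_mul_right _ hA) (Nat.mul_le_mul_left _ e1)
      _ = _ := by ring
  · have e4 : P ≤ (u + 1) * (C + 2 * f * b * V) := by
      calc P ≤ B' * C + b * H' * C' := hP
        _ = B' * C + b * (H' * C') := by ring
        _ ≤ (u + 1) * C + b * (2 * f * (u + 1) * V) :=
          Nat.add_le_add (Nat.mul_le_mul_right _ hB) (Nat.mul_le_mul_left _ e2)
        _ = _ := by ring
    calc H * P ≤ (2 * f * (u + 1) * κ) * ((u + 1) * (C + 2 * f * b * V)) := Nat.mul_le_mul e3 e4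
      _ = _ := by ring

theorem raw_gen {f κ V a b C C' H H' P Q h0 h1 A' B' T U : ℕ} (hC' : C' ≤ U)
    (hh0 : h0 ≤ 8 * f) (hh1 : h1 ≤ 8 * f) (hH : H ≤ h0 * κ) (hH' : H' ≤ h1 * V) (hA : A' ≤ T)
    (hB : B' ≤ T) (hQ : Q ≤ A' * C + a * H * C') (hP : P ≤ B' * C + b * H' * C') :
    Q ≤ T * C + 8 * f * U * (a * κ) ∧ H * P ≤ 8 * f * κ * (T * C + 8 * f * U * (b * V)) := by
  have e1 : H ≤ 8 * f * κ := hH.trans (Nat.mul_le_mul_right _ hh0)
  have e2 : H' ≤ 8 * f * V := hH'.trans (Nat.mul_le_mul_right _ hh1)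
  have e3 : H * C' ≤ (8 * f * κ) * U := Nat.mul_le_mul e1 hC'
  have e4 : H' * C' ≤ (8 * f * V) * U := Nat.mul_le_mul e2 hC'
  constructor
  · calc Q ≤ A' * C + a * H * C' := hQ
      _ = A' * C + a * (H * C') := by ring
      _ ≤ T * C + a * ((8 * f * κ) * U) :=
        Nat.add_le_add (Nat.mul_le_mul_right _ hA) (Nat.mul_le_mul_left _ e3)
      _ = _ := by ring
  · have e5 : P ≤ T * C + 8 * f * U * (b * V) := by
      calc P ≤ B' * C + b * H' * C' := hP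
        _ = B' * C + b * (H' * C') := by ring
        _ ≤ T * C + b * ((8 * f * V) * U) :=
          Nat.add_le_add (Nat.mul_le_mul_right _ hB) (Nat.mul_le_mul_left _ e4)
        _ = _ := by ring
    exact Nat.mul_le_mul e1 e5

theorem raw_fin {u f κ V a b C C' d k H H' P Q h0 h1 A' B' : ℕ} (hu : 2 ≤ u) (hf : 1 ≤ f) (hfu : 4 * f ^ 4 ≤ 81 * u)
    (hd0 : k = 0 → d * C' ≤ u + 1) (hk1 : k = 1 → C' ≤ 2 ∧ A' = 1 ∧ B' = 1) (hc' : C' ≤ 2 * (u + 1) ^ 2)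
    (hC1 : 1 ≤ C') (p0 : k = 0 → h0 ≤ 2 * d * f) (p1 : k ≠ 0 → h0 ≤ 8 * f) (r0 : k = 0 → h1 ≤ 2 * d * f)
    (r1 : k ≠ 0 → h1 ≤ 8 * f) (hH : H ≤ h0 * κ) (hH' : H' ≤ h1 * V) (hA : A' ≤ u + 1) (hB : B' ≤ u + 1)
    (hQ : Q ≤ A' * C + a * H * C') (hP : P ≤ B' * C + b * H' * C') (z0 : k = 0 → u ^ 7 ≤ 8 * Q)
    (z1 : k = 1 → u ^ 5 ≤ 8 * Q) (z2 : 2 ≤ k → u ^ 6 ≤ 8 * Q) :
    256 * (H * P) ^ 3 ≤ (5832 * (C * κ + 16 * b * κ * V)) ^ 3 * (C + 16 * a * κ) ^ 2 := by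
  rcases Nat.eq_zero_or_pos k with hk | hk
  · obtain ⟨e1, e2⟩ := raw_lin (hd0 hk) hC1 (p0 hk) (r0 hk) hH hH' hA hB hQ hP
    refine gam_num hu hf hfu ?_ ?_
    · calc u ^ 6 ≤ u ^ 7 := Nat.pow_le_pow_right (by omega) (by norm_num)
        _ ≤ 8 * Q := z0 hk
        _ ≤ 8 * ((u + 1) * C + 2 * f * (u + 1) * (a * κ)) := Nat.mul_le_mul_left _ e1
        _ ≤ _ := by
          refine Nat.mul_le_mul_left _ (Nat.add_le_add_left (Nat.mul_le_mul_right _ ?_) _)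
          calc 2 * f * (u + 1) ≤ (2 * f * (u + 1)) * (8 * (u + 1)) := Nat.le_mul_of_pos_right _ (by omega)
            _ = _ := by ring
    · calc H * P ≤ 2 * f * (u + 1) ^ 2 * κ * (C + 2 * f * b * V) := e2
        _ ≤ 8 * f * (u + 1) ^ 2 * κ * (C + 16 * f * b * V) := by
          gcongr <;> norm_num
  rcases Nat.lt_or_ge k 2 with hk2 | hk2
  · obtain ⟨c1, c2, c3⟩ := hk1 (by omega)
    obtain ⟨e1, e2⟩ := raw_gen (T := 1) (U := 2) c1 (p1 (by omega)) (r1 (by omega)) hH hH' c2.le c3.le hQ hP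
    refine gam_num hu hf hfu ?_ ?_
    · calc u ^ 6 = u * u ^ 5 := by ring
        _ ≤ u * (8 * (1 * C + 8 * f * 2 * (a * κ))) := Nat.mul_le_mul_left _ ((z1 (by omega)).trans (Nat.mul_le_mul_left _ e1))
        _ = 8 * (u * C + 16 * f * u * (a * κ)) := by ring
        _ ≤ 8 * ((u + 1) * C + 16 * f * (u + 1) ^ 2 * (a * κ)) := by
          have : u ≤ (u + 1) ^ 2 := by nlinarith
          gcongr
          omega
    · calc H * P ≤ 8 * f * κ * (1 * C + 8 * f * 2 * (b * V)) := e2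
        _ = 8 * f * 1 * κ * (C + 16 * f * b * V) := by ring
        _ ≤ 8 * f * (u + 1) ^ 2 * κ * (C + 16 * f * b * V) := by
          have : 1 ≤ (u + 1) ^ 2 := Nat.one_le_pow _ _ (by omega)
          gcongr
  · obtain ⟨e1, e2⟩ := raw_gen hc' (p1 (by omega)) (r1 (by omega)) hH hH' hA hB hQ hP
    refine gam_num hu hf hfu ?_ ?_
    · calc u ^ 6 ≤ 8 * Q := z2 hk2
        _ ≤ 8 * ((u + 1) * C + 8 * f * (2 * (u + 1) ^ 2) * (a * κ)) := Nat.mul_le_mul_left _ e1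
        _ = _ := by ring
    · calc H * P ≤ 8 * f * κ * ((u + 1) * C + 8 * f * (2 * (u + 1) ^ 2) * (b * V)) := e2
        _ ≤ 8 * f * κ * ((u + 1) ^ 2 * C + 8 * f * (2 * (u + 1) ^ 2) * (b * V)) := by
          have : u + 1 ≤ (u + 1) ^ 2 := by nlinarith
          gcongr
        _ = _ := by ring

theorem rkFour_of_five {t' : Fam} (h : RkFive t') : RkFour t' := by
  cases t' with
  | psl m => exact le_trans (by norm_num) (show 9 ≤ m from h)
  | psu m => exact le_trans (by norm_num) (show 9 ≤ m from h)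
  | psp m => exact le_trans (by norm_num) (show 5 ≤ m from h)
  | oodd m => exact le_trans (by norm_num) (show 5 ≤ m from h)
  | oplus m => exact le_trans (by norm_num) (show 7 ≤ m from h)
  | ominus m => exact le_trans (by norm_num) (show 6 ≤ m from h)
  | _ => exact h.elim

variable {t t' : Fam} {p f i j v f' i' j' w H : ℕ} {S : Type u} [Group S]

/-- the size of the isolated numbers of `S` -/
theorem low_six {u i' j' k d : ℕ} {s a b c : ℤ} (hu : 2 ≤ u) (hR : RkFive t') (hi : top t' j')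
    (hS : SNum t' u i' j' k d s a b c) :
    (k = 0 → u ^ 7 ≤ 8 * ttor t' u j') ∧ (k = 1 → u ^ 5 ≤ 8 * ttor t' u j') ∧
      (2 ≤ k → u ^ 6 ≤ 8 * ttor t' u j') := by
  have h1 := lowS hu (rk_of_four (rkFour_of_five hR)) hi
  have key : ∀ r, r ≤ szE t' → u ^ r ≤ 8 * ttor t' u j' := fun r hr =>
    (Nat.pow_le_pow_right (by omega) hr).trans h1
  refine ⟨fun hk => key 7 ?_, fun hk => key 5 ?_, fun hk => key 6 ?_⟩
  · rcases hS.lin hk with ⟨m, rfl, -⟩ | ⟨m, rfl, -⟩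
    · have : 9 ≤ m := hR
      change 7 ≤ m - 2
      omega
    · have : 9 ≤ m := hR
      change 7 ≤ m - 2
      omega
  · cases t' with
    | psl m => exact absurd (hS.lk ⟨m, Or.inl rfl⟩) (by omega)
    | psu m => exact absurd (hS.lk ⟨m, Or.inr rfl⟩) (by omega)
    | psp m => exact (show 5 ≤ m from hR)
    | oodd m => exact (show 5 ≤ m from hR)
    | oplus m =>
      have : 7 ≤ m := hR
      rw [szE]
      split_ifs <;> omega
    | ominus m => exact le_trans (by norm_num) (show 6 ≤ m from hR)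
    | _ => exact hR.elim
  · cases t' with
    | psl m => exact absurd (hS.lk ⟨m, Or.inl rfl⟩) (by omega)
    | psu m => exact absurd (hS.lk ⟨m, Or.inr rfl⟩) (by omega)
    | psp m => exact absurd (hS.sp ⟨m, Or.inl rfl⟩) (by omega)
    | oodd m => exact absurd (hS.sp ⟨m, Or.inr (Or.inl rfl)⟩) (by omega)
    | oplus m =>
      have : 7 ≤ m := hR
      rw [szE]
      split_ifs <;> omega
    | ominus m => exact (show 6 ≤ m from hR)
    | _ => exact hR.elim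

theorem outB_pos {v f' : ℕ} (hR : RkFour t') (hf : 1 ≤ f') : 0 < outB t' v f' := by
  cases t' with
  | psl m =>
    have : 7 ≤ m := hR
    have h1 : 0 < Nat.gcd m (v ^ f' - 1) := Nat.gcd_pos_of_pos_left _ (by omega)
    change 0 < 2 * Nat.gcd m (v ^ f' - 1) * f'
    positivity
  | psu m =>
    have : 7 ≤ m := hR
    have h1 : 0 < Nat.gcd m (v ^ f' + 1) := Nat.gcd_pos_of_pos_left _ (by omega)
    change 0 < 2 * Nat.gcd m (v ^ f' + 1) * f'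
    positivity
  | psp m =>
    change 0 < 2 * f'
    omega
  | oodd m =>
    change 0 < 2 * f'
    omega
  | oplus m =>
    change 0 < (if m = 4 then 24 * f' else 8 * f')
    split_ifs <;> omega
  | ominus m =>
    change 0 < 8 * f'
    omega
  | _ => exact hR.elim

/-- the data of the dirty case -/
structure Dirty (t : Fam) (p f i j : ℕ) (t' : Fam) (v f' i' j' H : ℕ) (H' κ h0 h' e A B : ℕ) (c : ℤ) : Prop where
  eqN : ttor t (p ^ f) j = H' * ttor t' (v ^ f') j'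
  lnum : LNum (p ^ f) (dimL t) (dgL t (p ^ f)) (ttor t (p ^ f) i) (ttor t (p ^ f) j) A B c
  lk : LK t (p ^ f) i j A B c
  κ1 : 1 ≤ κ
  κM : κ ∣ ttor t (p ^ f) i
  smo : Smo κ ((p ^ f) ^ 2 - 1)
  κne : κ ≠ 1
  an : An t' j'
  vN : v ∣ ttor t (p ^ f) j
  H0d : H ∣ h0 * κ
  h0o : h0 ∣ outB t' v f'
  H'd : H' ∣ h' * v ^ e
  h'o : h' ∣ outB t' v f'
  veN : v ^ e ∣ ttor t (p ^ f) j
  low : cls t (p ^ f) v ≤ 2 ∨ ∃ m, t' = .ominus m
  H1 : 1 ≤ H
  H'1 : 1 ≤ H'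
  P1 : 1 ≤ ttor t' (v ^ f') i'
  Q1 : 1 ≤ ttor t' (v ^ f') j'

theorem smo_of {q κ : ℕ} (hq : 3 ≤ q) {M : ℕ} (hcop : Nat.Coprime q M) (hM : κ ∣ M)
    (h : ∀ s : ℕ, s.Prime → s ∣ κ → cls t q s ≤ 2) : Smo κ (q ^ 2 - 1) := by
  intro s hs hd
  refine dvd_sq_of_cls (t := t) (by omega) hs ?_ (h s hs hd)
  intro hsq
  have h1 : s ∣ 1 := by
    rw [← hcop]
    exact Nat.dvd_gcd hsq (hd.trans hM)
  exact hs.one_lt.ne' (Nat.dvd_one.1 h1)

/-- **The dirty case: exotic, or the inequality.** -/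
theorem gam (h : Duel t p f i j t' v f' i' j' w H S) (hr : 4 ≤ rk t) (hR : RkFive t') (ht : top t' j')
    (hH : ¬ H ∣ outB t' v f') :
    (∃ H' : ℕ, ttor t (p ^ f) j = H' * ttor t' (v ^ f') j' ∧ Exo t (p ^ f) t' (v ^ f') i j i' j' H H') ∨
      ∃ (H' κ h0 h' e A B : ℕ) (c : ℤ), Dirty t p f i j t' v f' i' j' H H' κ h0 h' e A B c ∧
        256 * ttor t (p ^ f) i ^ 3 ≤ (5832 * (c.natAbs * κ + 16 * B * κ * v ^ e)) ^ 3 *
          (c.natAbs + 16 * A * κ) ^ 2 := by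
  obtain ⟨H', k, d, s', a, b, c, a', b', c', hN, hL, hk, hS, hH1, hH1', hP1, hQ1, h1⟩ :=
    h.iso_raw hr (Or.inl (rk_of_four (rkFour_of_five hR))) ht
  rcases h1 with h1 | ⟨hQ, hP, -⟩
  · exact Or.inl ⟨H', hN, h1⟩
  right
  obtain ⟨hq3, hq2⟩ := f_q h.p_prime h.p_ne h.f_pos
  obtain ⟨ha1, ha2, hb1, hb2, hc, hM1, hN1⟩ := hL.sz hq3
  have hu : 2 ≤ v ^ f' := h.v_prime.two_le.trans (Nat.le_self_pow (by have := h.f'_pos; omega) v)
  obtain ⟨ha1', ha2', hb1', hb2', hab', hba', hd0, -, hk1, hc', hk3, hc0'⟩ := hS.rel.sz hu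
  obtain ⟨h0, κ, d1, d2, d3, d4, d5, d6⟩ := h.cof
  have hκ : κ ≠ 1 := by
    rintro rfl
    exact hH (by rw [mul_one] at d1; exact d1.trans d2)
  obtain ⟨g1, g2, h', e, g3, g4, g5, g6⟩ := d5 hκ
  have hR4 := rkFour_of_five hR
  obtain ⟨p0, p1⟩ := outB_le hR4 h.f'_pos hS d2
  obtain ⟨r0, r1⟩ := outB_le hR4 h.f'_pos hS g4
  obtain ⟨z0, z1, z2⟩ := low_six hu hR ht hS
  have hHd := g3 H' hN
  have hM := h.eqM
  obtain ⟨A, rfl⟩ : ∃ A : ℕ, a = A := ⟨a.toNat, (Int.toNat_of_nonneg (by omega)).symm⟩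
  obtain ⟨B, rfl⟩ : ∃ B : ℕ, b = B := ⟨b.toNat, (Int.toNat_of_nonneg (by omega)).symm⟩
  obtain ⟨A', rfl⟩ : ∃ A : ℕ, a' = A := ⟨a'.toNat, (Int.toNat_of_nonneg (by omega)).symm⟩
  obtain ⟨B', rfl⟩ : ∃ B : ℕ, b' = B := ⟨b'.toNat, (Int.toNat_of_nonneg (by omega)).symm⟩
  simp only [Int.abs_eq_natAbs] at hQ hP hc hc' hd0 hk1
  refine ⟨H', κ, h0, h', e, A, B, c, ⟨hN, hL, hk, d3, d4, smo_of hq3 hL.copM d4 fun s hs hd => (d6 s hs hd).2.2,
    hκ, g1, g2, d1, d2, hHd, g4, g5, g6, hH1, hH1', hP1, hQ1⟩, ?_⟩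
  have o1 := outB_pos (v := v) hR4 h.f'_pos
  have o2 : 0 < h0 := Nat.pos_of_dvd_of_pos d2 o1
  have o3 : 0 < h' := Nat.pos_of_dvd_of_pos g4 o1
  have hHle : H ≤ h0 * κ := Nat.le_of_dvd (Nat.mul_pos o2 (by omega)) d1
  have hHle' : H' ≤ h' * v ^ e := Nat.le_of_dvd (Nat.mul_pos o3 (Nat.pow_pos h.v_prime.pos)) hHd
  have hfu : 4 * f' ^ 4 ≤ 81 * v ^ f' :=
    (four_pow h.f'_pos).trans (Nat.mul_le_mul_left _ (Nat.pow_le_pow_left h.v_prime.two_le f'))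
  rw [hM]
  refine raw_fin (A' := A') (B' := B') (C' := c'.natAbs) (H' := H') hu h.f'_pos hfu (fun hk => ?_) (fun hk => ?_) ?_ ?_ p0 p1 r0 r1 hHle hHle' ?_ ?_ ?_ ?_ z0 z1 z2
  · exact_mod_cast hd0 hk
  · exact_mod_cast hk1 hk
  · exact_mod_cast hc'
  · exact Nat.one_le_iff_ne_zero.2 (by rwa [Ne, Int.natAbs_eq_zero])
  · exact_mod_cast ha2'
  · exact_mod_cast hb2'
  · exact_mod_cast hQ
  · exact_mod_cast hP

end Cfsg.Agent.R2.Spec.Gamma
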