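import Cfsg.Agent.R2.Spec.Gamma.Raw
import Cfsg.Agent.R2.Spec.Gamma.Cmb
import Cfsg.Agent.R2.Spec.Gamma.Fam

/-!
# Packet GAMMA (helper28): `v ∣ q ^ 2 - 1`, reduction to a finite table
-/

set_option autoImplicit false
set_option linter.unusedSectionVars false

namespace Cfsg.Agent.R2.Spec.Gamma

open Cfsg Cfsg.Agent.H426.LieFam Cfsg.Agent.R2.Spec Cfsg.Agent.R2.Spec.P1 Cfsg.Agent.R2.Spec.F1 Cfsg.Agent.R2.Spec.E

universe u

/-- the finite table -/
def FinT : Fam → ℕ → Prop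
  | .psl n, q => (∃ x ∈ tabLO, n = x.1 + 1 ∧ q < x.2) ∨ (∃ x ∈ tabLE, n = x.1 + 1 ∧ q < x.2)
  | .psu n, q => (∃ x ∈ tabLO, n = x.1 + 1 ∧ q < x.2) ∨ (∃ x ∈ tabLE, n = x.1 + 1 ∧ q < x.2)
  | .psp n, q => ∃ x ∈ tabII, n = x.1 ∧ q < x.2
  | .oodd n, q => ∃ x ∈ tabII, n = x.1 ∧ q < x.2
  | .oplus n, q => (∃ x ∈ tabOI, n = x.1 ∧ q < x.2) ∨ (∃ x ∈ tabII, n = x.1 + 1 ∧ q < x.2)
  | .ominus n, q => ∃ x ∈ tabOI, n = x.1 ∧ q < x.2
  | _, _ => False

variable {t t' : Fam} {p f i j v f' i' j' w H : ℕ} {S : Type u} [Group S]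

/-- the constant, linear case -/
theorem lkC_lin {q n : ℕ} {a b c : ℤ} (hq : 3 ≤ q) (ht : t = .psl n ∨ t = .psu n) (h : LK t q i j a b c) :
    dgL t q * c.natAbs ≤ q + 1 := by
  have hu : (usg t q : ℤ) ≤ (q : ℤ) + 1 := by
    rcases ht with rfl | rfl
    · change ((q - 1 : ℕ) : ℤ) ≤ _
      omega
    · change ((q + 1 : ℕ) : ℤ) ≤ _
      omega
  rcases h with ⟨n', s, h1, h2, h3, -⟩ | ⟨n', d, s, τ, X, h1, -⟩ | ⟨h1, -⟩
  · rw [h2, Int.abs_eq_natAbs] at h3
    rw [← h3] at hu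
    rw [mul_comm]
    exact_mod_cast hu
  · rcases ht with rfl | rfl <;> rcases h1 with ⟨h1, -⟩ | ⟨h1, -⟩ <;> exact Fam.noConfusion h1
  · rcases ht with rfl | rfl <;> exact h1.elim

/-- the constants, type II -/
theorem lkC_II {q : ℕ} {A B : ℕ} {c : ℤ} (hnl : ∀ n, t ≠ .psl n ∧ t ≠ .psu n) (ht : FamII t)
    (h : LK t q i j A B c) : c.natAbs = 1 ∧ A = 1 ∧ B = 1 := by
  rcases h with ⟨n', s, h1, -⟩ | ⟨n', d, s, τ, X, h1, -⟩ | ⟨-, h2, h3, h4⟩
  · rcases h1 with h1 | h1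
    · exact absurd h1 (hnl n').1
    · exact absurd h1 (hnl n').2
  · rcases h1 with ⟨rfl, h1, -⟩ | ⟨rfl, -⟩
    · have h5 : n' % 2 = 0 := ht
      omega
    · exact ht.elim
  · rw [Int.abs_eq_natAbs] at h4
    exact ⟨by exact_mod_cast h4, by exact_mod_cast h2, by exact_mod_cast h3⟩

theorem smo_pow {v e B : ℕ} (hv : v.Prime) (h : v ∣ B) : Smo (v ^ e) B := by
  intro s hs hd
  rw [(Nat.prime_dvd_prime_iff_eq hs hv).1 (hs.dvd_of_dvd_pow hd)]
  exact h

theorem dgL_pos {q : ℕ} (h4 : 4 ≤ rk t) : 1 ≤ dgL t q := by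
  cases t with
  | psl n => exact Nat.gcd_pos_of_pos_left _ (lt_of_lt_of_le (by norm_num) (show 4 ≤ n from h4))
  | psu n => exact Nat.gcd_pos_of_pos_left _ (lt_of_lt_of_le (by norm_num) (show 4 ≤ n from h4))
  | _ => exact le_rfl

/-- **Reduction to the finite table**, `v ∣ q ^ 2 - 1`. -/
theorem low_tab {H' κ h0 h' e A B : ℕ} {c : ℤ} (h : Duel t p f i j t' v f' i' j' w H S)
    (hD : Dirty t p f i j t' v f' i' j' H H' κ h0 h' e A B c) (h5 : Five t) (hlow : cls t (p ^ f) v ≤ 2)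
    (hin : 256 * ttor t (p ^ f) i ^ 3 ≤ (5832 * (c.natAbs * κ + 16 * B * κ * v ^ e)) ^ 3 *
      (c.natAbs + 16 * A * κ) ^ 2) : FinT t (p ^ f) := by
  obtain ⟨hq3, hq2⟩ := f_q h.p_prime h.p_ne h.f_pos
  have hvq : ¬ v ∣ p ^ f := fun hd =>
    h.vp ((Nat.prime_dvd_prime_iff_eq h.v_prime h.p_prime).1 (h.v_prime.dvd_of_dvd_pow hd))
  have hv2 : v ∣ (p ^ f) ^ 2 - 1 := dvd_sq_of_cls (t := t) (by omega) h.v_prime hvq hlow
  have hsV : Smo (v ^ e) ((p ^ f) ^ 2 - 1) := smo_pow h.v_prime hv2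
  have hsv : Smo v ((p ^ f) ^ 2 - 1) := Smo.of_dvd hv2
  have hV1 : 1 ≤ v ^ e := Nat.one_le_pow _ _ h.v_prime.pos
  obtain ⟨ha1, ha2, hb1, hb2, hc, hM1, hN1⟩ := hD.lnum.sz hq3
  have hA : A ≤ p ^ f + 1 := by exact_mod_cast ha2
  have hB : B ≤ p ^ f + 1 := by exact_mod_cast hb2
  have hlowM := hD.lnum.lowM
  have hsκ := hD.smo
  have hκM := hD.κM
  have hκne := hD.κne
  have hvN := hD.vN
  have hveN := hD.veN
  have hlk := hD.lk
  have hv1 : v ≠ 1 := h.v_prime.one_lt.ne'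
  have hpair := h.pair
  obtain ⟨q, hq⟩ : ∃ q, q = p ^ f := ⟨_, rfl⟩
  obtain ⟨V, hV⟩ : ∃ V, V = v ^ e := ⟨_, rfl⟩
  rw [← hq] at hq3 hq2 hsV hsv hc hM1 hN1 hA hB hlowM hsκ hκM hvN hveN hlk hin ⊢
  rw [← hV] at hsV hV1 hveN hin
  have hsq : q ^ 2 - 1 ≤ (q + 1) ^ 2 := by
    have : q ^ 2 ≤ (q + 1) ^ 2 := Nat.pow_le_pow_left (by omega) 2
    omega
  have hss : (q + 1) * (q - 1) ≤ (q + 1) ^ 2 := by rw [← sq_sub_one]; exact hsq
  cases t with
  | psl n =>
    have h9 : 9 ≤ n := h5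
    have hC := lkC_lin hq3 (Or.inl rfl) hlk
    obtain ⟨k1, k2, k3, k4⟩ := sm_psl (n := n) hq3 hq2 (by omega) hsκ
    obtain ⟨l1, l2, l3, l4⟩ := sm_psl (n := n) hq3 hq2 (by omega) hsV
    have hd := dgL_pos (t := .psl n) (q := q) (show 4 ≤ n by omega)
    have hdg : dgL (.psl n) q = Nat.gcd n (q - 1) := rfl
    have hdim : dimL (.psl n) = n - 1 := rfl
    rw [hdg] at hC hd hlowM
    rw [hdim] at hlowM
    rcases Nat.mod_two_eq_zero_or_one n with h2 | h2
    · right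
      obtain ⟨x, hx, h3, h4⟩ := endLE (r := n - 1) (q := q) (κ := κ) (V := V) (by omega) (by omega) hq3 hd hC hA hB (by
          rcases hpair with ⟨rfl, h6⟩ | ⟨h6, rfl⟩
          · have := k2 h2 hκM
            have e1 : (q + 1) * i ≤ (q + 1) * (2 * (i - 1)) := Nat.mul_le_mul_left _ (by omega)
            have e2 : (q + 1) * (2 * (i - 1)) = 2 * ((q + 1) * (i - 1)) := by ring
            omega
          · obtain rfl : i = j - 1 := by omega
            exact (k4 h2 hκM).trans (Nat.mul_le_mul_right _ (by omega))) (by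
          rcases hpair with ⟨rfl, h6⟩ | ⟨h6, rfl⟩
          · obtain rfl : j = i - 1 := by omega
            calc 2 * ((Nat.gcd i (q - 1) * κ) * (Nat.gcd i (q - 1) * V)) =
                  (2 * (Nat.gcd i (q - 1) * κ)) * (Nat.gcd i (q - 1) * V) := by ring
              _ ≤ ((q + 1) * i) * ((q - 1) * (i - 1)) := Nat.mul_le_mul (k2 h2 hκM) (l4 h2 hveN)
              _ = ((q + 1) * (q - 1)) * (i * (i - 1)) := by ring
              _ ≤ (q + 1) ^ 2 * (i * (i - 1)) := Nat.mul_le_mul_right _ hss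
              _ = _ := by rw [Nat.sub_add_cancel (by omega)]
          · obtain rfl : i = j - 1 := by omega
            calc 2 * ((Nat.gcd j (q - 1) * κ) * (Nat.gcd j (q - 1) * V)) =
                  (Nat.gcd j (q - 1) * κ) * (2 * (Nat.gcd j (q - 1) * V)) := by ring
              _ ≤ ((q - 1) * (j - 1)) * ((q + 1) * j) := Nat.mul_le_mul (k4 h2 hκM) (l2 h2 hveN)
              _ = ((q + 1) * (q - 1)) * (j * (j - 1)) := by ring
              _ ≤ (q + 1) ^ 2 * (j * (j - 1)) := Nat.mul_le_mul_right _ hss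
              _ = _ := by rw [Nat.sub_add_cancel (by omega)]) hin hlowM
      exact ⟨x, hx, by omega, h4⟩
    · left
      obtain ⟨x, hx, h3, h4⟩ := endLO (r := n - 1) (q := q) (κ := κ) (V := V) (by omega) (by omega) hq3 hd hC hA hB (by
          rcases hpair with ⟨rfl, h6⟩ | ⟨h6, rfl⟩
          · obtain rfl : j = i - 1 := by omega
            left
            exact ⟨by have := k1 h2 hκM; omega, (l3 h2 hveN).trans (Nat.mul_le_mul_right _ hsq)⟩
          · obtain rfl : i = j - 1 := by omega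
            right
            exact ⟨(k3 h2 hκM).trans (Nat.mul_le_mul_right _ hsq), by have := l1 h2 hveN; omega⟩) hin hlowM
      exact ⟨x, hx, by omega, h4⟩
  | psu n =>
    have h9 : 9 ≤ n := h5
    have hC := lkC_lin hq3 (Or.inr rfl) hlk
    obtain ⟨k1, k2, k3, k4⟩ := sm_psu (n := n) hq3 hq2 (by omega) hsκ
    obtain ⟨l1, l2, l3, l4⟩ := sm_psu (n := n) hq3 hq2 (by omega) hsV
    have hd := dgL_pos (t := .psu n) (q := q) (show 4 ≤ n by omega)
    have hdg : dgL (.psu n) q = Nat.gcd n (q + 1) := rfl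
    have hdim : dimL (.psu n) = n - 1 := rfl
    rw [hdg] at hC hd hlowM
    rw [hdim] at hlowM
    rcases Nat.mod_two_eq_zero_or_one n with h2 | h2
    · right
      obtain ⟨x, hx, h3, h4⟩ := endLE (r := n - 1) (q := q) (κ := κ) (V := V) (by omega) (by omega) hq3 hd hC hA hB (by
          rcases hpair with ⟨rfl, h6⟩ | ⟨h6, rfl⟩
          · have := k2 h2 hκM
            have e1 : (q - 1) * i ≤ (q + 1) * (2 * (i - 1)) := Nat.mul_le_mul (by omega) (by omega)
            have e2 : (q + 1) * (2 * (i - 1)) = 2 * ((q + 1) * (i - 1)) := by ring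
            omega
          · obtain rfl : i = j - 1 := by omega
            exact k4 h2 hκM) (by
          rcases hpair with ⟨rfl, h6⟩ | ⟨h6, rfl⟩
          · obtain rfl : j = i - 1 := by omega
            calc 2 * ((Nat.gcd i (q + 1) * κ) * (Nat.gcd i (q + 1) * V)) =
                  (2 * (Nat.gcd i (q + 1) * κ)) * (Nat.gcd i (q + 1) * V) := by ring
              _ ≤ ((q - 1) * i) * ((q + 1) * (i - 1)) := Nat.mul_le_mul (k2 h2 hκM) (l4 h2 hveN)
              _ = ((q + 1) * (q - 1)) * (i * (i - 1)) := by ring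
              _ ≤ (q + 1) ^ 2 * (i * (i - 1)) := Nat.mul_le_mul_right _ hss
              _ = _ := by rw [Nat.sub_add_cancel (by omega)]
          · obtain rfl : i = j - 1 := by omega
            calc 2 * ((Nat.gcd j (q + 1) * κ) * (Nat.gcd j (q + 1) * V)) =
                  (Nat.gcd j (q + 1) * κ) * (2 * (Nat.gcd j (q + 1) * V)) := by ring
              _ ≤ ((q + 1) * (j - 1)) * ((q - 1) * j) := Nat.mul_le_mul (k4 h2 hκM) (l2 h2 hveN)
              _ = ((q + 1) * (q - 1)) * (j * (j - 1)) := by ring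
              _ ≤ (q + 1) ^ 2 * (j * (j - 1)) := Nat.mul_le_mul_right _ hss
              _ = _ := by rw [Nat.sub_add_cancel (by omega)]) hin hlowM
      exact ⟨x, hx, by omega, h4⟩
    · left
      obtain ⟨x, hx, h3, h4⟩ := endLO (r := n - 1) (q := q) (κ := κ) (V := V) (by omega) (by omega) hq3 hd hC hA hB (by
          rcases hpair with ⟨rfl, h6⟩ | ⟨h6, rfl⟩
          · obtain rfl : j = i - 1 := by omega
            left
            exact ⟨by have := k1 h2 hκM; omega, (l3 h2 hveN).trans (Nat.mul_le_mul_right _ hsq)⟩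
          · obtain rfl : i = j - 1 := by omega
            right
            exact ⟨(k3 h2 hκM).trans (Nat.mul_le_mul_right _ hsq), by have := l1 h2 hveN; omega⟩) hin hlowM
      exact ⟨x, hx, by omega, h4⟩
  | psp n =>
    have h7 : 7 ≤ n := h5
    obtain ⟨h2, h3⟩ := hpair
    obtain ⟨c1, c2, c3⟩ := lkC_II (fun n => ⟨fun h => Fam.noConfusion h, fun h => Fam.noConfusion h⟩)
      (show FamII (.psp n) from h2) hlk
    rw [c1, c2, c3] at hin
    obtain ⟨k1, k2⟩ := sm_psp (n := n) hq3 hq2 (by omega) h2 hsκ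
    obtain ⟨l1, l2⟩ := sm_psp (n := n) hq3 hq2 (by omega) h2 hsV
    refine endII h7 h2 hq3 hV1 ?_ ?_ hin hlowM
    · rcases h3 with ⟨rfl, rfl⟩ | ⟨rfl, rfl⟩
      · exact (k1 hκM).trans (Nat.mul_le_mul_right _ (by omega))
      · exact k2 hκM
    · rcases h3 with ⟨rfl, rfl⟩ | ⟨rfl, rfl⟩
      · calc (2 * κ) * (2 * V) ≤ ((q - 1) * i) * ((q + 1) * i) := Nat.mul_le_mul (k1 hκM) (l2 hveN)
          _ = ((q + 1) * (q - 1)) * i ^ 2 := by ring
          _ ≤ _ := Nat.mul_le_mul_right _ hss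
      · calc (2 * κ) * (2 * V) ≤ ((q + 1) * j) * ((q - 1) * j) := Nat.mul_le_mul (k2 hκM) (l1 hveN)
          _ = ((q + 1) * (q - 1)) * j ^ 2 := by ring
          _ ≤ _ := Nat.mul_le_mul_right _ hss
  | oodd n =>
    have h7 : 7 ≤ n := h5
    obtain ⟨h2, h3⟩ := hpair
    obtain ⟨c1, c2, c3⟩ := lkC_II (fun n => ⟨fun h => Fam.noConfusion h, fun h => Fam.noConfusion h⟩)
      (show FamII (.oodd n) from h2) hlk
    rw [c1, c2, c3] at hin
    obtain ⟨k1, k2⟩ := sm_psp (n := n) hq3 hq2 (by omega) h2 hsκ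
    obtain ⟨l1, l2⟩ := sm_psp (n := n) hq3 hq2 (by omega) h2 hsV
    refine endII h7 h2 hq3 hV1 ?_ ?_ hin hlowM
    · rcases h3 with ⟨rfl, rfl⟩ | ⟨rfl, rfl⟩
      · exact (k1 hκM).trans (Nat.mul_le_mul_right _ (by omega))
      · exact k2 hκM
    · rcases h3 with ⟨rfl, rfl⟩ | ⟨rfl, rfl⟩
      · calc (2 * κ) * (2 * V) ≤ ((q - 1) * i) * ((q + 1) * i) := Nat.mul_le_mul (k1 hκM) (l2 hveN)
          _ = ((q + 1) * (q - 1)) * i ^ 2 := by ring
          _ ≤ _ := Nat.mul_le_mul_right _ hss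
      · calc (2 * κ) * (2 * V) ≤ ((q + 1) * j) * ((q - 1) * j) := Nat.mul_le_mul (k2 hκM) (l1 hveN)
          _ = ((q + 1) * (q - 1)) * j ^ 2 := by ring
          _ ≤ _ := Nat.mul_le_mul_right _ hss
  | oplus n =>
    have h7 : 7 ≤ n := h5
    rcases hpair with ⟨h2, h3⟩ | ⟨h2, h3⟩
    · left
      have hdim : dimL (.oplus n) = n := by rw [dimL, if_neg (by omega)]
      rw [hdim] at hlowM
      obtain ⟨k1, k2⟩ := sm_oplus_odd (n := n) hq3 hq2 (by omega) h2 hsκ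
      obtain ⟨l1, l2⟩ := sm_oplus_odd (n := n) hq3 hq2 (by omega) h2 hsV
      have hg := gcd_four_ge (m := q ^ n - 1) (by
        have := odd_pow_mod (n := n) hq2
        have := Nat.one_le_pow n q (by omega)
        omega)
      obtain ⟨g, hg0⟩ : ∃ g, g = Nat.gcd 4 (q ^ n - 1) := ⟨_, rfl⟩
      rw [← hg0] at k1 k2 l1 l2 hg
      have hC : c.natAbs ≤ (q + 1) ^ 2 := by
        rw [Int.abs_eq_natAbs] at hc
        exact_mod_cast hc
      have e2 : ∀ y, 2 * y ≤ g * y := fun y => Nat.mul_le_mul_right _ hg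
      refine endOI h7 h2 hq3 hC hA hB ?_ ?_ hin hlowM
      · rcases h3 with ⟨rfl, rfl⟩ | ⟨rfl, rfl⟩
        · exact (e2 κ).trans ((k1 hκM).trans (Nat.mul_le_mul_right _ (by omega)))
        · refine (e2 κ).trans ((k2 hκM).trans ?_)
          rw [mul_comm]
          exact Nat.mul_le_mul_left _ (by omega)
      · have e3 : 2 * (2 * (κ * V)) ≤ (g * κ) * (g * V) := by
          calc 2 * (2 * (κ * V)) = (2 * κ) * (2 * V) := by ring
            _ ≤ _ := Nat.mul_le_mul (e2 κ) (e2 V)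
        have e4 : (g * κ) * (g * V) ≤ 2 * ((q + 1) ^ 2 * n) := by
          rcases h3 with ⟨rfl, rfl⟩ | ⟨rfl, rfl⟩
          · calc (g * κ) * (g * V) ≤ ((q - 1) * i) * (2 * (q + 1)) := Nat.mul_le_mul (k1 hκM) (l2 hveN)
              _ = 2 * (((q + 1) * (q - 1)) * i) := by ring
              _ ≤ _ := Nat.mul_le_mul_left _ (Nat.mul_le_mul_right _ hss)
          · calc (g * κ) * (g * V) ≤ (2 * (q + 1)) * ((q - 1) * j) := Nat.mul_le_mul (k2 hκM) (l1 hveN)
              _ = 2 * (((q + 1) * (q - 1)) * j) := by ring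
              _ ≤ _ := Nat.mul_le_mul_left _ (Nat.mul_le_mul_right _ hss)
        omega
    · right
      have hdim : dimL (.oplus n) = n - 1 := by rw [dimL, if_pos h2]
      rw [hdim] at hlowM
      obtain ⟨c1, c2, c3⟩ := lkC_II (fun n => ⟨fun h => Fam.noConfusion h, fun h => Fam.noConfusion h⟩)
        (show FamII (.oplus n) from h2) hlk
      rw [c1, c2, c3] at hin
      obtain ⟨k1, k2⟩ := sm_oplus_even (n := n) hq3 hq2 (by omega) h2 hsκ
      obtain ⟨l1, l2⟩ := sm_oplus_even (n := n) hq3 hq2 (by omega) h2 hsV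
      obtain ⟨x, hx, h4, h6⟩ := endII (n := n - 1) (by omega) (by omega) hq3 hV1 (by
        rcases h3 with ⟨rfl, rfl⟩ | ⟨rfl, rfl⟩
        · exact (k1 hκM).trans (Nat.mul_le_mul_right _ (by omega))
        · exact k2 hκM) (by
        rcases h3 with ⟨rfl, rfl⟩ | ⟨rfl, rfl⟩
        · calc (2 * κ) * (2 * V) ≤ ((q - 1) * (n - 1)) * ((q + 1) * (n - 1)) := Nat.mul_le_mul (k1 hκM) (l2 hveN)
            _ = ((q + 1) * (q - 1)) * (n - 1) ^ 2 := by ring
            _ ≤ _ := Nat.mul_le_mul_right _ hss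
        · calc (2 * κ) * (2 * V) ≤ ((q + 1) * (n - 1)) * ((q - 1) * (n - 1)) := Nat.mul_le_mul (k2 hκM) (l1 hveN)
            _ = ((q + 1) * (q - 1)) * (n - 1) ^ 2 := by ring
            _ ≤ _ := Nat.mul_le_mul_right _ hss) hin hlowM
      exact ⟨x, hx, by omega, h6⟩
  | ominus n =>
    have h7 : 7 ≤ n := h5
    rcases Nat.mod_two_eq_zero_or_one n with h2 | h2
    · exfalso
      rcases hpair with ⟨rfl, rfl⟩ | ⟨rfl, rfl⟩
      · exact hκne (sm_ominus_even hq3 hq2 (by omega) h2 hsκ hκM)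
      · exact hv1 (sm_ominus_even hq3 hq2 (by omega) h2 hsv hvN)
    · obtain ⟨k1, k2⟩ := sm_ominus_odd (n := n) hq3 hq2 (by omega) h2 hsκ
      obtain ⟨l1, l2⟩ := sm_ominus_odd (n := n) hq3 hq2 (by omega) h2 hsV
      have hg := gcd_four_ge (m := q ^ n + 1) (by
        have := odd_pow_mod (n := n) hq2
        omega)
      obtain ⟨g, hg0⟩ : ∃ g, g = Nat.gcd 4 (q ^ n + 1) := ⟨_, rfl⟩
      rw [← hg0] at k1 k2 l1 l2 hg
      have hC : c.natAbs ≤ (q + 1) ^ 2 := by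
        rw [Int.abs_eq_natAbs] at hc
        exact_mod_cast hc
      have e2 : ∀ y, 2 * y ≤ g * y := fun y => Nat.mul_le_mul_right _ hg
      refine endOI h7 h2 hq3 hC hA hB ?_ ?_ hin hlowM
      · rcases hpair with ⟨rfl, rfl⟩ | ⟨rfl, rfl⟩
        · exact (e2 κ).trans (k1 hκM)
        · refine (e2 κ).trans ((k2 hκM).trans ?_)
          rw [mul_comm]
          exact Nat.mul_le_mul (by omega) (by omega)
      · have e3 : 2 * (2 * (κ * V)) ≤ (g * κ) * (g * V) := by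
          calc 2 * (2 * (κ * V)) = (2 * κ) * (2 * V) := by ring
            _ ≤ _ := Nat.mul_le_mul (e2 κ) (e2 V)
        have e4 : (g * κ) * (g * V) ≤ 2 * ((q + 1) ^ 2 * n) := by
          rcases hpair with ⟨rfl, rfl⟩ | ⟨rfl, rfl⟩
          · calc (g * κ) * (g * V) ≤ ((q + 1) * n) * (2 * (q - 1)) := Nat.mul_le_mul (k1 hκM) (l2 hveN)
              _ = 2 * (((q + 1) * (q - 1)) * n) := by ring
              _ ≤ _ := Nat.mul_le_mul_left _ (Nat.mul_le_mul_right _ hss)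
          · calc (g * κ) * (g * V) ≤ (2 * (q - 1)) * ((q + 1) * n) := Nat.mul_le_mul (k2 hκM) (l1 hveN)
              _ = 2 * (((q + 1) * (q - 1)) * n) := by ring
              _ ≤ _ := Nat.mul_le_mul_left _ (Nat.mul_le_mul_right _ hss)
        omega
  | _ => exact h5.elim

end Cfsg.Agent.R2.Spec.Gamma
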