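import Cfsg.Agent.R2.Spec.Gamma.ChkK

/-!
# Packet GAMMA (helper28): the kernel check, `v ∣ q ^ 2 - 1`, soundness
-/

set_option autoImplicit false
set_option linter.unusedSectionVars false

namespace Cfsg.Agent.R2.Spec.Gamma

open Cfsg Cfsg.Agent.H426.LieFam Cfsg.Agent.R2.Spec Cfsg.Agent.R2.Spec.P1 Cfsg.Agent.R2.Spec.F1 Cfsg.Agent.R2.Spec.E

universe u

theorem beq_iff {a b : ℕ} : Nat.beq a b = true ↔ a = b := ⟨Nat.eq_of_beq_eq_true, fun h => by rw [h]; exact Nat.beq_refl b⟩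

theorem ble_iff {a b : ℕ} : Nat.ble a b = true ↔ a ≤ b := ⟨Nat.le_of_ble_eq_true, Nat.ble_eq_true_of_le⟩

theorem blt_iff {a b : ℕ} : Nat.blt a b = true ↔ a < b := by
  rw [Nat.blt, ble_iff]
  exact Iff.rfl

theorem tst_false {N V o Q : ℕ} (h : tst N V o Q = true) (h1 : Q ∣ N) (h2 : N / Q ∣ o * V) : False := by
  rw [tst, Bool.not_eq_true', Bool.and_eq_false_iff] at h
  rcases h with h | h
  · have := beq_iff.2 (Nat.mod_eq_zero_of_dvd h1)
    rw [this] at h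
    cases h
  · have := beq_iff.2 (Nat.mod_eq_zero_of_dvd h2)
    rw [this] at h
    cases h

theorem smo_dvd_pow {y B L : ℕ} (hs : Smo y B) (hB : B ≠ 0) (hy0 : y ≠ 0) (hy : y < 2 ^ (L + 1)) : y ∣ B ^ L := by
  refine dvd_of_val hy0 (pow_ne_zero _ hB) fun s hsp hsy => ?_
  have hf := Fact.mk hsp
  rw [padicValNat.pow]
  have h1 : 1 ≤ padicValNat s B := by
    have := (padicValNat_dvd_iff_le hB (p := s) (n := 1)).1 (by rw [pow_one]; exact hs s hsp hsy)
    exact this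
  have h2 : padicValNat s y ≤ L := by
    have h3 : s ^ padicValNat s y ≤ y := Nat.le_of_dvd (Nat.pos_of_ne_zero hy0) pow_padicValNat_dvd
    have h4 : 2 ^ padicValNat s y ≤ s ^ padicValNat s y := Nat.pow_le_pow_left hsp.two_le _
    have h5 := (Nat.pow_lt_pow_iff_right (by norm_num : 1 < 2)).1 ((h4.trans h3).trans_lt hy)
    omega
  calc padicValNat s y ≤ L * 1 := by omega
    _ ≤ L * padicValNat s B := Nat.mul_le_mul_left _ h1

theorem prn_false {M C X K V κ V' A B c : ℕ} (h : prn M C X K V = true) (hκ : κ ≤ K) (hV : V' ≤ V) (hA : A ≤ X)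
    (hB : B ≤ X) (hc : c ≤ C)
    (hin : 256 * M ^ 3 ≤ (5832 * (c * κ + 16 * B * κ * V')) ^ 3 * (c + 16 * A * κ) ^ 2) : False := by
  rw [prn, blt_iff] at h
  have h1 : (5832 * (c * κ + 16 * B * κ * V')) ^ 3 * (c + 16 * A * κ) ^ 2 ≤
      (5832 * (C * K + 16 * X * K * V)) ^ 3 * (C + 16 * X * K) ^ 2 := by
    gcongr
  omega

variable {t t' : Fam} {p f i j v f' i' j' w H : ℕ} {S : Type u} [Group S]

theorem two_pow_log {n k : ℕ} (hn : n ≠ 0) (h : 2 ^ k ≤ n) : k ≤ Nat.log2 n :=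
  (Nat.le_log2 hn).2 h

/-- the families -/
theorem tsts_false {N V m : ℕ} (hR : RkFive t') (hm : m = rk t') (hA : An t' j')
    (h : tsts N V v f' m = true) (h1 : ttor t' (v ^ f') j' ∣ N) (h2 : N / ttor t' (v ^ f') j' ∣ outB t' v f' * V) :
    False := by
  subst hm
  rw [tsts, Bool.and_eq_true, Bool.and_eq_true, Bool.and_eq_true] at h
  obtain ⟨⟨⟨a1, a2⟩, a3⟩, a4⟩ := h
  cases t' with
  | psl m =>
    have hm : 9 ≤ m := hR
    rw [Bool.or_eq_true, Bool.and_eq_true, ble_iff] at a1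
    rcases a1 with a1 | a1
    · change m ≤ 8 at a1
      omega
    · obtain rfl : j' = m := hA
      exact tst_false a1.1 h1 h2
  | psu m =>
    have hm : 9 ≤ m := hR
    rw [Bool.or_eq_true, Bool.and_eq_true, ble_iff] at a1
    rcases a1 with a1 | a1
    · change m ≤ 8 at a1
      omega
    · obtain ⟨b1, b2⟩ : j' % 2 = 1 ∧ (j' = m ∨ j' + 1 = m) := hA
      obtain rfl : j' = m - (m + 1) % 2 := by omega
      exact tst_false a1.2 h1 h2
  | psp m =>
    obtain rfl : j' = 2 * m := hA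
    exact tst_false a2 h1 h2
  | oodd m =>
    obtain rfl : j' = 2 * m := hA
    rw [ttor_oodd] at h1 h2
    exact tst_false a2 h1 h2
  | oplus m =>
    have hm : 7 ≤ m := hR
    rw [Bool.or_eq_true, ble_iff] at a3
    rcases a3 with a3 | a3
    · change m ≤ 6 at a3
      omega
    · have b1 : j' + 2 = 2 * m := hA
      obtain rfl : j' = 2 * (m - 1) := by omega
      have b2 : outB (.oplus m) v f' = 8 * f' := by
        change (if m = 4 then 24 * f' else 8 * f') = _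
        rw [if_neg (by omega)]
      rw [b2] at h2
      exact tst_false a3 h1 h2
  | ominus m =>
    have hm : 6 ≤ m := hR
    rw [Bool.or_eq_true, ble_iff] at a4
    rcases a4 with a4 | a4
    · change m ≤ 5 at a4
      omega
    · obtain rfl : j' = 2 * m := hA
      exact tst_false a4 h1 h2
  | _ => exact hR.elim

theorem rkFive_sz (hR : RkFive t') : 5 ≤ rk t' ∧ 5 ≤ szE t' ∧ rk t' - 2 ≤ szE t' := by
  cases t' with
  | psl m =>
    have hm : 9 ≤ m := hR
    exact ⟨show 5 ≤ m by omega, show 5 ≤ m - 2 by omega, show m - 2 ≤ m - 2 by omega⟩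
  | psu m =>
    have hm : 9 ≤ m := hR
    exact ⟨show 5 ≤ m by omega, show 5 ≤ m - 2 by omega, show m - 2 ≤ m - 2 by omega⟩
  | psp m =>
    have hm : 5 ≤ m := hR
    exact ⟨show 5 ≤ m by omega, show 5 ≤ m by omega, show m - 2 ≤ m by omega⟩
  | oodd m =>
    have hm : 5 ≤ m := hR
    exact ⟨show 5 ≤ m by omega, show 5 ≤ m by omega, show m - 2 ≤ m by omega⟩
  | oplus m =>
    have hm : 7 ≤ m := hR
    refine ⟨show 5 ≤ m by omega, ?_, ?_⟩
    · rw [szE]; split_ifs <;> omega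
    · change m - 2 ≤ _
      rw [szE]; split_ifs <;> omega
  | ominus m =>
    have hm : 6 ≤ m := hR
    exact ⟨show 5 ≤ m by omega, show 5 ≤ m by omega, show m - 2 ≤ m by omega⟩
  | _ => exact hR.elim

theorem chkF_false {N V : ℕ} (hv : v.Prime) (hf : 1 ≤ f') (hR : RkFive t') (ht : top t' j') (hA : An t' j')
    (hN : 1 ≤ N) (h1 : ttor t' (v ^ f') j' ∣ N) (h2 : N / ttor t' (v ^ f') j' ∣ outB t' v f' * V)
    (h : chkF N V v (Nat.log2 (8 * N)) = true) : False := by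
  obtain ⟨r1, r2, r3⟩ := rkFive_sz hR
  have hu : 2 ≤ v ^ f' := hv.two_le.trans (Nat.le_self_pow (by omega) v)
  have hlow := lowS hu (by omega) ht
  have hQ : 8 * ttor t' (v ^ f') j' ≤ 8 * N := Nat.mul_le_mul_left _ (Nat.le_of_dvd hN h1)
  have key : ∀ r, r ≤ szE t' → (v ^ f') ^ r ≤ 8 * N := fun r hr =>
    ((Nat.pow_le_pow_right (by omega) hr).trans hlow).trans hQ
  have key2 : ∀ r, r ≤ szE t' → f' * r ≤ Nat.log2 (8 * N) := fun r hr => by
    refine two_pow_log (by omega) ?_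
    rw [pow_mul]
    exact (Nat.pow_le_pow_left (Nat.pow_le_pow_left hv.two_le _) _).trans (key r hr)
  have h5 := key2 5 r2
  have hm := key2 (rk t' - 2) r3
  rw [chkF, List.all_eq_true] at h
  have h3 := h f' (by rw [List.mem_range]; omega)
  rw [Bool.or_eq_true, Bool.or_eq_true, beq_iff, blt_iff] at h3
  rcases h3 with (h3 | h3) | h3
  · omega
  · have := key 5 r2
    omega
  rw [chkM, List.all_eq_true] at h3
  have h4 := h3 (rk t') (by
    rw [List.mem_range]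
    have : rk t' - 2 ≤ Nat.log2 (8 * N) / f' := by
      rw [Nat.le_div_iff_mul_le (by omega), mul_comm]
      exact hm
    omega)
  rw [Bool.or_eq_true, Bool.or_eq_true, ble_iff, blt_iff] at h4
  rcases h4 with (h4 | h4) | h4
  · omega
  · have := key (rk t' - 2) r3
    omega
  exact tsts_false hR rfl hA h4 h1 h2

theorem lt_two_log {x n : ℕ} (hx : x ≤ n) : x < 2 ^ (Nat.log2 (8 * n) + 1) := by
  have h := Nat.lt_log2_self (n := 8 * n)
  omega

/-- **Soundness.** -/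
theorem chk_sound {H' κ h0 h' e A B : ℕ} {c : ℤ} (h : Duel t p f i j t' v f' i' j' w H S)
    (hD : Dirty t p f i j t' v f' i' j' H H' κ h0 h' e A B c) (hR : RkFive t') (ht : top t' j')
    (hlow : cls t (p ^ f) v ≤ 2) (hA : A ≤ cX t (p ^ f)) (hB : B ≤ cX t (p ^ f)) (hc : c.natAbs ≤ cC t (p ^ f))
    (hin : 256 * ttor t (p ^ f) i ^ 3 ≤ (5832 * (c.natAbs * κ + 16 * B * κ * v ^ e)) ^ 3 *
      (c.natAbs + 16 * A * κ) ^ 2) (hk : chk t i j (p ^ f) = true) : False := by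
  obtain ⟨hq3, hq2⟩ := f_q h.p_prime h.p_ne h.f_pos
  have hv := h.v_prime
  have hvq : ¬ v ∣ p ^ f := fun hd =>
    h.vp ((Nat.prime_dvd_prime_iff_eq hv h.p_prime).1 (hv.dvd_of_dvd_pow hd))
  have hv2 : v ∣ (p ^ f) ^ 2 - 1 := dvd_sq_of_cls (t := t) (by omega) hv hvq hlow
  obtain ⟨-, -, -, -, -, hM1, hN1⟩ := hD.lnum.sz hq3
  have hB0 : (p ^ f) ^ 2 - 1 ≠ 0 := by
    rw [sq_sub_one]
    exact (Nat.mul_pos (by omega) (by omega)).ne'
  have hκ0 : κ ≠ 0 := by have := hD.κ1; omega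
  have hV0 : v ^ e ≠ 0 := (Nat.pow_pos hv.pos).ne'
  have hκM := Nat.le_of_dvd hM1 hD.κM
  have hVN := Nat.le_of_dvd hN1 hD.veN
  -- the smooth parts
  have k1 : κ ≤ Nat.gcd (ttor t (p ^ f) i) (((p ^ f) ^ 2 - 1) ^ Nat.log2 (8 * ttor t (p ^ f) i)) :=
    Nat.le_of_dvd (Nat.gcd_pos_of_pos_left _ hM1)
      (Nat.dvd_gcd hD.κM (smo_dvd_pow hD.smo hB0 hκ0 (lt_two_log hκM)))
  have k2 : v ^ e ≤ Nat.gcd (ttor t (p ^ f) j) (((p ^ f) ^ 2 - 1) ^ Nat.log2 (8 * ttor t (p ^ f) j)) :=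
    Nat.le_of_dvd (Nat.gcd_pos_of_pos_left _ hN1)
      (Nat.dvd_gcd hD.veN (smo_dvd_pow (smo_pow hv hv2) hB0 hV0 (lt_two_log hVN)))
  have he : e ≤ Nat.log2 (8 * ttor t (p ^ f) j) := by
    refine two_pow_log (by omega) ?_
    have h4 : 2 ^ e ≤ v ^ e := Nat.pow_le_pow_left hv.two_le _
    omega
  have k3 : v ^ e ∣ Nat.gcd (ttor t (p ^ f) j) (v ^ Nat.log2 (8 * ttor t (p ^ f) j)) :=
    Nat.dvd_gcd hD.veN (pow_dvd_pow v he)
  have k3' := Nat.le_of_dvd (Nat.gcd_pos_of_pos_left _ hN1) k3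
  rw [chk, chkP, Bool.or_eq_true] at hk
  rcases hk with hk | hk
  · exact prn_false hk k1 k2 hA hB hc hin
  rw [chkV, List.all_eq_true] at hk
  have hvle : v < p ^ f + 2 := by
    rw [sq_sub_one] at hv2
    rcases hv.dvd_mul.1 hv2 with h1 | h1
    · have := Nat.le_of_dvd (by omega) h1
      omega
    · have := Nat.le_of_dvd (by omega) h1
      omega
  have h1 := hk v (List.mem_range.2 hvle)
  rw [Bool.or_eq_true, Bool.or_eq_true, Bool.or_eq_true, Bool.or_eq_true, ble_iff, Bool.and_eq_true,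
    Bool.not_eq_true', Bool.not_eq_true', beq_iff] at h1
  have hvone := hv.one_lt
  rcases h1 with (((h1 | ⟨h1, h2⟩) | h1) | h1) | h1
  · omega
  · have h3 := (Nat.prime_dvd_prime_iff_eq Nat.prime_two hv).1 (Nat.dvd_of_mod_eq_zero h2)
    rw [← h3] at h1
    cases h1
  · have h2 := Nat.mod_eq_zero_of_dvd (Nat.dvd_gcd hD.vN hv2)
    rw [h2] at h1
    cases h1
  · exact prn_false h1 k1 k3' hA hB hc hin
  · refine chkF_false hv h.f'_pos hR ht hD.an hN1 (Dvd.intro_left _ hD.eqN.symm) ?_ h1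
    have h2 : ttor t (p ^ f) j / ttor t' (v ^ f') j' = H' := by
      rw [hD.eqN, Nat.mul_div_cancel _ hD.Q1]
    rw [h2]
    exact hD.H'd.trans (Nat.mul_dvd_mul hD.h'o k3)

/-- the constants -/
theorem const_le {q : ℕ} {A B : ℕ} {c : ℤ} {D d M N : ℕ} (hq : 3 ≤ q) (h5 : Five t) (hp : PairOK t i j)
    (hL : LNum q D d M N A B c) (hk : LK t q i j A B c) : A ≤ cX t q ∧ B ≤ cX t q ∧ c.natAbs ≤ cC t q := by
  obtain ⟨ha1, ha2, hb1, hb2, hc, hM1, hN1⟩ := hL.sz hq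
  have hA : A ≤ q + 1 := by exact_mod_cast ha2
  have hB : B ≤ q + 1 := by exact_mod_cast hb2
  have hC : c.natAbs ≤ (q + 1) ^ 2 := by
    rw [Int.abs_eq_natAbs] at hc
    exact_mod_cast hc
  cases t with
  | psl n =>
    have h9 : 9 ≤ n := h5
    refine ⟨hA, hB, ?_⟩
    have h1 := lkC_lin hq (Or.inl rfl) hk
    have h2 := dgL_pos (t := .psl n) (q := q) (show 4 ≤ n by omega)
    change _ ≤ (q + 1) / dgL (.psl n) q
    rw [Nat.le_div_iff_mul_le h2, mul_comm]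
    exact h1
  | psu n =>
    have h9 : 9 ≤ n := h5
    refine ⟨hA, hB, ?_⟩
    have h1 := lkC_lin hq (Or.inr rfl) hk
    have h2 := dgL_pos (t := .psu n) (q := q) (show 4 ≤ n by omega)
    change _ ≤ (q + 1) / dgL (.psu n) q
    rw [Nat.le_div_iff_mul_le h2, mul_comm]
    exact h1
  | psp n =>
    obtain ⟨c1, c2, c3⟩ := lkC_II (fun n => ⟨fun h => Fam.noConfusion h, fun h => Fam.noConfusion h⟩)
      (show FamII (.psp n) from hp.1) hk
    exact ⟨c2.le, c3.le, c1.le⟩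
  | oodd n =>
    obtain ⟨c1, c2, c3⟩ := lkC_II (fun n => ⟨fun h => Fam.noConfusion h, fun h => Fam.noConfusion h⟩)
      (show FamII (.oodd n) from hp.1) hk
    exact ⟨c2.le, c3.le, c1.le⟩
  | oplus n =>
    rcases Nat.mod_two_eq_zero_or_one n with h2 | h2
    · obtain ⟨c1, c2, c3⟩ := lkC_II (fun n => ⟨fun h => Fam.noConfusion h, fun h => Fam.noConfusion h⟩)
        (show FamII (.oplus n) from h2) hk
      rw [cX, cC, if_pos h2, if_pos h2]
      exact ⟨c2.le, c3.le, c1.le⟩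
    · rw [cX, cC, if_neg (by omega), if_neg (by omega)]
      exact ⟨hA, hB, hC⟩
  | ominus n => exact ⟨hA, hB, hC⟩
  | _ => exact h5.elim

end Cfsg.Agent.R2.Spec.Gamma
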