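import Cfsg.Agent.R2.Spec.F1.DuelEx

/-!
# The class of the characteristic of `S` in the second number: combinatorics (helper27)
-/

set_option autoImplicit false
set_option linter.unusedVariables false

namespace Cfsg.Agent.R2.Spec.Gamma

open Cfsg.Agent.H426.LieFam Cfsg.Agent.R2.Spec Cfsg.Agent.R2.Spec.P1 Cfsg.Agent.R2.Spec.F1
open Cfsg.Agent.R2.Spec.E (PairOK)

/-- three big classes not adjacent to `l`, different from `j` -/
def Tri (t : Fam) (j l : ℕ) : Prop :=
  ∃ a b c, Big t a ∧ Big t b ∧ Big t c ∧ a ≠ j ∧ b ≠ j ∧ c ≠ j ∧ a ≠ b ∧ a ≠ c ∧ b ≠ c ∧ na t l a ∧ na t l b ∧ na t l c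

/-- two big classes not adjacent to `l`, different from `j` -/
def Two (t : Fam) (j l : ℕ) : Prop :=
  ∃ a b, Big t a ∧ Big t b ∧ a ≠ j ∧ b ≠ j ∧ a ≠ b ∧ na t l a ∧ na t l b

/-- the exceptions -/
def VEx (t : Fam) (j l : ℕ) : Prop :=
  ((∃ n, t = .psl n ∨ t = .psu n) ∧ l = 3 ∧ 3 ∣ j) ∨
    ((∃ n, (t = .oplus n ∨ t = .ominus n) ∧ n % 4 = 3 ∧ j = 2 * (n - 1)) ∧ l = 4)

theorem not_om_eta {c l : ℕ} (h : eta l < eta c) : ¬ OddMul c l := by
  rintro ⟨k, hk, rfl⟩
  rw [eta_mul_odd hk] at h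
  have : eta c * 1 ≤ eta c * k := Nat.mul_le_mul_left _ (by omega)
  omega

theorem not_om_par {l c : ℕ} (h : (l + c) % 2 = 1) : ¬ OddMul l c := by
  rintro ⟨k, hk, rfl⟩
  have h1 : l * k % 2 = l % 2 := by rw [Nat.mul_mod, hk, mul_one, Nat.mod_mod]
  omega

theorem not_om_two {a d : ℕ} (h : ¬ a ∣ d) : ¬ OddMul (2 * a) (2 * d) := by
  rintro ⟨k, -, hk⟩
  exact h ⟨k, by rw [mul_assoc] at hk; omega⟩

theorem ndvd_of {a d e : ℕ} (h : a ∣ d + e) (h1 : 0 < e) (h2 : e < a) : ¬ a ∣ d := fun h3 => by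
  have := Nat.le_of_dvd h1 ((Nat.dvd_add_right h3).1 h)
  omega

/-- linear and unitary families -/
theorem lin_na {n j l k : ℕ} (hn : 9 ≤ n) (hl3 : 3 ≤ l) (hlj : l ≠ j) (hj : j = n ∨ j + 1 = n) (hd : l ∣ j)
    (hk : k ≤ n) (hkj : k ≠ j) (h1 : k < j → j < k + l) (h2 : j < k → k < j + l) (h3 : n < l + k) :
    n < l + k ∧ ¬ l ∣ k ∧ ¬ k ∣ l := by
  have h4 : 2 * l ≤ j := by
    obtain ⟨c, rfl⟩ := hd
    have hc : c ≠ 1 := by rintro rfl; exact hlj (mul_one l).symm
    have hc0 : c ≠ 0 := by rintro rfl; omega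
    have := Nat.mul_le_mul_left l (show 2 ≤ c by omega)
    omega
  refine ⟨h3, ?_, ?_⟩
  · rcases lt_or_gt_of_ne hkj with h5 | h5
    · refine ndvd_of (e := j - k) (by rw [show k + (j - k) = j by omega]; exact hd) (by omega) (by have := h1 h5; omega)
    · intro h6
      have h7 := (Nat.dvd_sub h6 hd)
      have := Nat.le_of_dvd (by omega) h7
      have := h2 h5
      omega
  · intro h5
    have := Nat.le_of_dvd (by omega) h5
    omega

theorem comb_lin {t : Fam} {n j l : ℕ} (hn : 9 ≤ n)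
    (hB : ∀ k, Big t k ↔ 3 ≤ k ∧ k ≤ n ∧ n < 2 * k) (hN : ∀ a b, na t a b ↔ n < a + b ∧ ¬ a ∣ b ∧ ¬ b ∣ a)
    (hj : j = n ∨ j + 1 = n) (hl3 : 3 ≤ l) (hl : l ≤ n) (hlj : l ≠ j) (hna : ¬ na t l j) :
    Tri t j l ∨ (Two t j l ∧ l = 3 ∧ 3 ∣ j) := by
  have hd : l ∣ j := by
    rw [hN] at hna
    by_contra h1
    refine hna ⟨by omega, h1, fun h2 => ?_⟩
    obtain ⟨c, hc⟩ := h2
    have hc1 : c ≠ 1 := by rintro rfl; exact hlj (by rw [hc, mul_one])
    have hc0 : c ≠ 0 := by rintro rfl; omega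
    have := Nat.mul_le_mul_left j (show 2 ≤ c by omega)
    omega
  have key : ∀ k, k ≤ n → n ≤ k + 3 → k ≠ j → n < l + k → (k + 3 = n → 4 ≤ l) → (k + 3 = n → j = n → 4 ≤ l) →
      Big t k ∧ na t l k := by
    intro k h1 h2 h3 h4 h5 h6
    refine ⟨(hB k).2 ⟨by omega, h1, by omega⟩, (hN _ _).2 (lin_na hn hl3 hlj hj hd h1 h3 ?_ ?_ h4)⟩ <;> omega
  rcases Nat.lt_or_ge 3 l with h4 | h4
  · left
    rcases hj with hj | hj
    · obtain ⟨a1, a2⟩ := key (n - 1) (by omega) (by omega) (by omega) (by omega) (by omega) (by omega)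
      obtain ⟨b1, b2⟩ := key (n - 2) (by omega) (by omega) (by omega) (by omega) (by omega) (by omega)
      obtain ⟨c1, c2⟩ := key (n - 3) (by omega) (by omega) (by omega) (by omega) (by omega) (by omega)
      exact ⟨_, _, _, a1, b1, c1, by omega, by omega, by omega, by omega, by omega, by omega, a2, b2, c2⟩
    · obtain ⟨a1, a2⟩ := key n (by omega) (by omega) (by omega) (by omega) (by omega) (by omega)
      obtain ⟨b1, b2⟩ := key (n - 2) (by omega) (by omega) (by omega) (by omega) (by omega) (by omega)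
      obtain ⟨c1, c2⟩ := key (n - 3) (by omega) (by omega) (by omega) (by omega) (by omega) (by omega)
      exact ⟨_, _, _, a1, b1, c1, by omega, by omega, by omega, by omega, by omega, by omega, a2, b2, c2⟩
  · right
    have hl : l = 3 := by omega
    subst hl
    refine ⟨?_, rfl, hd⟩
    rcases hj with hj | hj
    · obtain ⟨a1, a2⟩ := key (n - 1) (by omega) (by omega) (by omega) (by omega) (by omega) (by omega)
      obtain ⟨b1, b2⟩ := key (n - 2) (by omega) (by omega) (by omega) (by omega) (by omega) (by omega)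
      exact ⟨_, _, a1, b1, by omega, by omega, by omega, a2, b2⟩
    · obtain ⟨a1, a2⟩ := key n (by omega) (by omega) (by omega) (by omega) (by omega) (by omega)
      obtain ⟨b1, b2⟩ := key (n - 2) (by omega) (by omega) (by omega) (by omega) (by omega) (by omega)
      exact ⟨_, _, a1, b1, by omega, by omega, by omega, a2, b2⟩

/-- the multiple -/
theorem om_three {l j : ℕ} (hl : 0 < l) (hlj : l ≠ j) (h : OddMul l j) : ∃ k, k % 2 = 1 ∧ 3 ≤ k ∧ j = l * k ∧
    eta j = eta l * k ∧ 3 * eta l ≤ eta j := by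
  obtain ⟨k, hk, rfl⟩ := h
  have h1 : k ≠ 1 := by rintro rfl; exact hlj (mul_one l).symm
  refine ⟨k, hk, by omega, rfl, eta_mul_odd hk, ?_⟩
  rw [eta_mul_odd hk, mul_comm 3]
  exact Nat.mul_le_mul_left _ (by omega)

theorem om_self {l j : ℕ} (hlj : l ≠ j) (h1 : eta l < 2 * eta j) : ¬ OddMul j l := by
  rintro ⟨k, hk, rfl⟩
  rw [eta_mul_odd hk] at h1
  have hk1 : k ≠ 1 := by rintro rfl; exact hlj (mul_one j)
  have := Nat.mul_le_mul_left (eta j) (show 2 ≤ k by omega)
  omega

theorem eta_ge {l : ℕ} (h : 3 ≤ l) : 2 ≤ eta l := by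
  rcases eta_cases l with ⟨h1, h2⟩ | ⟨h1, h2⟩ <;> omega

theorem par_mul {l k : ℕ} (hk : k % 2 = 1) : l * k % 2 = l % 2 := by
  rw [Nat.mul_mod, hk, mul_one, Nat.mod_mod]

/-- symplectic and odd orthogonal families -/
theorem comb_sp {t : Fam} {n i j l : ℕ} (hn : 7 ≤ n) (hodd : n % 2 = 1)
    (hB : ∀ k, Big t k ↔ 3 ≤ k ∧ eta k ≤ n ∧ n < 2 * eta k)
    (hN : ∀ a b, na t a b ↔ n < eta a + eta b ∧ ¬ OddMul a b ∧ ¬ OddMul b a)
    (hj : (i = n ∧ j = 2 * n) ∨ (i = 2 * n ∧ j = n)) (hl3 : 3 ≤ l) (hl : eta l ≤ n) (hlj : l ≠ j)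
    (hna : ¬ na t l j) : Tri t j l := by
  have e1 := eta_odd hodd
  have e2 := eta_two_mul' n
  have e3 := eta_two_mul' (n - 1)
  have e4 := eta_two_mul' (n - 2)
  have hl2 := eta_ge hl3
  have hej : eta j = n := by rcases hj with ⟨-, h⟩ | ⟨-, h⟩ <;> rw [h] <;> assumption
  have hei : eta i = n := by rcases hj with ⟨h, -⟩ | ⟨h, -⟩ <;> rw [h] <;> assumption
  have hd : OddMul l j := by
    rw [hN] at hna
    by_contra h1
    exact hna ⟨by omega, h1, om_self hlj (by omega)⟩
  obtain ⟨k, hk, hk3, hjk, hek, h3⟩ := om_three (by omega) hlj hd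
  have hb : ∀ c, 3 ≤ c → n ≤ eta c + 2 → eta c ≤ n → Big t c := fun c h1 h2 h3 => (hB c).2 ⟨h1, h3, by omega⟩
  have hlodd : j = n → l % 2 = 1 := by
    intro h1
    rw [h1] at hjk
    have := par_mul (l := l) hk
    omega
  have hleven : j = 2 * n → ∃ a, l = 2 * a ∧ a ∣ n ∧ 3 ≤ a := by
    intro h1
    rw [h1] at hjk
    have h2 : l % 2 = 0 := by
      have := par_mul (l := l) hk
      omega
    obtain ⟨a, ha⟩ : ∃ a, l = 2 * a := ⟨l / 2, by omega⟩
    have h4 : n = a * k := by rw [ha, mul_assoc] at hjk; omega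
    have ha2 : a ≠ 2 := by
      rintro rfl
      omega
    exact ⟨a, ha, ⟨k, h4⟩, by omega⟩
  have hel : 3 ≤ eta l := by
    rcases hj with ⟨-, h⟩ | ⟨-, h⟩
    · obtain ⟨a, h1, h2, h4⟩ := hleven h
      rw [h1, eta_two_mul']
      exact h4
    · rw [eta_odd (hlodd h)]
      exact hl3
  have c2 : ∀ d, d = 1 ∨ d = 2 → na t l (2 * (n - d)) := by
    intro d hd
    have e5 := eta_two_mul' (n - d)
    rw [hN]
    refine ⟨by rw [e5]; omega, ?_, not_om_eta (by rw [e5]; omega)⟩
    rcases hj with ⟨-, h⟩ | ⟨-, h⟩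
    · obtain ⟨a, h1, h2, h4⟩ := hleven h
      rw [h1]
      exact not_om_two (ndvd_of (e := d) (by rw [Nat.sub_add_cancel (by omega)]; exact h2) (by omega) (by omega))
    · exact not_om_par (by have := hlodd h; omega)
  refine ⟨i, 2 * (n - 1), 2 * (n - 2), hb _ (by omega) (by omega) (by omega), hb _ (by omega) (by omega) (by omega),
    hb _ (by omega) (by omega) (by omega), by omega, by omega, by omega, by omega, by omega, by omega, ?_,
    c2 1 (Or.inl rfl), c2 2 (Or.inr rfl)⟩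
  rw [hN]
  refine ⟨by omega, not_om_par ?_, not_om_eta (by omega)⟩
  rcases hj with ⟨h', h⟩ | ⟨h', h⟩
  · obtain ⟨a, h1, -, -⟩ := hleven h
    omega
  · have := hlodd h
    omega

/-- plus type, `n` even -/
theorem comb_pe {n i j l : ℕ} (hn : 7 ≤ n) (hev : n % 2 = 0)
    (hj : (i = n - 1 ∧ j = 2 * (n - 1)) ∨ (i = 2 * (n - 1) ∧ j = n - 1)) (hl3 : 3 ≤ l) (hl : mem (.oplus n) l)
    (hlj : l ≠ j) (hna : ¬ na (.oplus n) l j) : Tri (.oplus n) j l := by
  have hl' : eta l + 1 ≤ n := by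
    rcases hl with h | h
    · exact h
    · omega
  have e1 := eta_odd (i := n - 1) (by omega)
  have e2 := eta_two_mul' (n - 1)
  have e3 := eta_two_mul' (n - 2)
  have e4 := eta_two_mul' (n - 3)
  have e5 := eta_odd (i := n - 3) (by omega)
  have hl2 := eta_ge hl3
  have hej : eta j = n - 1 := by rcases hj with ⟨-, h⟩ | ⟨-, h⟩ <;> rw [h] <;> assumption
  have hei : eta i = n - 1 := by rcases hj with ⟨h, -⟩ | ⟨h, -⟩ <;> rw [h] <;> assumption
  have hd : OddMul l j := by
    by_contra h1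
    exact hna ⟨by omega, h1, om_self hlj (by omega), by omega, by omega⟩
  obtain ⟨k, hk, hk3, hjk, hek, h3⟩ := om_three (by omega) hlj hd
  have hpar := par_mul (l := l) hk
  have hlodd : j = n - 1 → l % 2 = 1 := by omega
  have hleven : j = 2 * (n - 1) → ∃ a, l = 2 * a ∧ n - 1 = a * k ∧ 3 ≤ a := by
    intro h1
    rw [h1] at hjk
    obtain ⟨a, ha⟩ : ∃ a, l = 2 * a := ⟨l / 2, by omega⟩
    have h4 : n - 1 = a * k := by rw [ha, mul_assoc] at hjk; omega
    have ha2 : a ≠ 2 := by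
      rintro rfl
      omega
    exact ⟨a, ha, h4, by omega⟩
  have hb : ∀ c, n ≤ eta c + 3 → eta c + 1 ≤ n → Big (.oplus n) c := fun c h1 h2 =>
    ⟨by rcases eta_cases c with h | h <;> omega, Or.inl h2, show n < 2 * eta c by omega⟩
  have n1 : na (.oplus n) l i := by
    refine ⟨Or.inl (by omega), not_om_par ?_, not_om_eta (by omega), by omega, by omega⟩
    rcases hj with ⟨h', h⟩ | ⟨h', h⟩
    · obtain ⟨a, h1, -, -⟩ := hleven h
      clear hleven
      omega
    · have := hlodd h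
      omega
  have n2 : na (.oplus n) l (2 * (n - 2)) := by
    refine ⟨Or.inl ?_, ?_, not_om_eta (by omega), by omega, by omega⟩
    · rcases hj with ⟨-, h⟩ | ⟨-, h⟩
      · obtain ⟨a, h1, -, h4⟩ := hleven h
        clear hleven
        have := eta_two_mul' a
        rw [h1]
        omega
      · have := eta_odd (hlodd h)
        omega
    · rcases hj with ⟨-, h⟩ | ⟨-, h⟩
      · obtain ⟨a, h1, h2, h4⟩ := hleven h
        clear hleven
        rw [h1]
        exact not_om_two (ndvd_of (e := 1) (by rw [show n - 2 + 1 = n - 1 by omega]; exact ⟨k, h2⟩) (by omega)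
          (by omega))
      · exact not_om_par (by have := hlodd h; omega)
  rcases hj with ⟨h', h⟩ | ⟨h', h⟩
  · obtain ⟨a, h1, h2, h4⟩ := hleven h
    clear hleven
    have e6 := eta_two_mul' a
    refine ⟨i, 2 * (n - 2), n - 3, hb _ (by omega) (by omega), hb _ (by omega) (by omega), hb _ (by omega) (by omega),
      by omega, by omega, by omega, by omega, by omega, by omega, n1, n2, ?_⟩
    rw [← h1] at e6
    exact ⟨by omega, not_om_par (by omega), not_om_eta (by omega), by omega, by omega⟩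
  · have h1 := hlodd h
    have e6 := eta_odd h1
    refine ⟨i, 2 * (n - 2), 2 * (n - 3), hb _ (by omega) (by omega), hb _ (by omega) (by omega),
      hb _ (by omega) (by omega), by omega, by omega, by omega, by omega, by omega, by omega, n1, n2, ?_⟩
    exact ⟨by omega, not_om_par (by omega), not_om_eta (by omega), by omega, by omega⟩

/-- plus type, `n` odd -/
theorem comb_po {n i j l : ℕ} (hn : 7 ≤ n) (hodd : n % 2 = 1)
    (hj : (i = n ∧ j = 2 * (n - 1)) ∨ (i = 2 * (n - 1) ∧ j = n)) (hl3 : 3 ≤ l) (hl : mem (.oplus n) l)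
    (hlj : l ≠ j) (hna : ¬ na (.oplus n) l j) :
    Tri (.oplus n) j l ∨ (Two (.oplus n) j l ∧ n % 4 = 3 ∧ j = 2 * (n - 1) ∧ l = 4) := by
  have e1 := eta_odd hodd
  have e2 := eta_two_mul' (n - 1)
  have e3 := eta_two_mul' (n - 2)
  have e5 := eta_odd (i := n - 2) (by omega)
  have hl2 := eta_ge hl3
  have hl' : eta l ≤ n := by
    rcases hl with h | ⟨h, -⟩
    · omega
    · rw [h, e1]
  have hd : OddMul l j := by
    by_contra h1
    refine hna ⟨Or.inl ?_, h1, om_self hlj ?_, by omega, by omega⟩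
    · rcases hj with ⟨-, h⟩ | ⟨-, h⟩ <;> rw [h] <;> omega
    · rcases hj with ⟨-, h⟩ | ⟨-, h⟩ <;> rw [h] <;> omega
  obtain ⟨k, hk, hk3, hjk, hek, h3⟩ := om_three (by omega) hlj hd
  have hpar := par_mul (l := l) hk
  have hb : ∀ c, n ≤ eta c + 2 → eta c + 1 ≤ n → Big (.oplus n) c := fun c h1 h2 =>
    ⟨by rcases eta_cases c with h | h <;> omega, Or.inl h2, show n < 2 * eta c by omega⟩
  have hbn : Big (.oplus n) n := ⟨by omega, Or.inr ⟨rfl, hodd⟩, show n < 2 * eta n by omega⟩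
  rcases hj with ⟨h', h⟩ | ⟨h', h⟩
  · rw [h, e2] at hek h3
    rw [h] at hjk
    obtain ⟨a, ha⟩ : ∃ a, l = 2 * a := ⟨l / 2, by omega⟩
    have e6 := eta_two_mul' a
    rw [← ha] at e6
    rw [e6] at hek h3
    have hapar := par_mul (l := a) hk
    have n1 : na (.oplus n) l n := ⟨by omega, not_om_par (by omega), not_om_par (by omega), by omega, by omega⟩
    have n2 : na (.oplus n) l (n - 2) := ⟨by omega, not_om_par (by omega), not_om_par (by omega), by omega, by omega⟩
    rcases Nat.lt_or_ge 2 a with h4 | h4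
    · left
      refine ⟨n, n - 2, 2 * (n - 2), hbn, hb _ (by omega) (by omega), hb _ (by omega) (by omega), by omega, by omega,
        by omega, by omega, by omega, by omega, n1, n2, by omega, ?_, not_om_eta (by omega), by omega, by omega⟩
      rw [ha]
      refine not_om_two (ndvd_of (e := 1) ?_ (by omega) (by omega))
      rw [show n - 2 + 1 = n - 1 by omega]
      exact ⟨k, hek⟩
    · right
      have ha2 : a = 2 := by omega
      subst ha2
      exact ⟨⟨n, n - 2, hbn, hb _ (by omega) (by omega), by omega, by omega, by omega, n1, n2⟩, by omega, h, by omega⟩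
  · left
    rw [h, e1] at hek h3
    have h1 : l % 2 = 1 := by omega
    have e6 := eta_odd h1
    rw [e6] at hek h3
    refine ⟨2 * (n - 1), 2 * (n - 2), n - 2, hb _ (by omega) (by omega), hb _ (by omega) (by omega),
      hb _ (by omega) (by omega), by omega, by omega, by omega, by omega, by omega, by omega,
      ⟨by omega, not_om_par (by omega), not_om_eta (by omega), by omega, by omega⟩,
      ⟨by omega, not_om_par (by omega), not_om_eta (by omega), by omega, by omega⟩,
      ⟨by omega, ?_, not_om_eta (by omega), by omega, by omega⟩⟩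
    intro h5
    obtain ⟨k', hk', h6⟩ := h5
    refine ndvd_of (a := l) (d := n - 2) (e := 2) ?_ (by norm_num) (by omega) ⟨k', h6⟩
    rw [show n - 2 + 2 = n by omega]
    exact ⟨k, hek⟩

/-- minus type -/
theorem comb_m {n i j l : ℕ} (hn : 7 ≤ n)
    (hj : (i = 2 * n ∧ j = 2 * (n - 1)) ∨ (i = 2 * (n - 1) ∧ j = 2 * n)) (hl3 : 3 ≤ l) (hl : mem (.ominus n) l)
    (hlj : l ≠ j) (hna : ¬ na (.ominus n) l j) :
    Tri (.ominus n) j l ∨ (Two (.ominus n) j l ∧ n % 4 = 3 ∧ j = 2 * (n - 1) ∧ l = 4) := by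
  have e1 := eta_two_mul' n
  have e2 := eta_two_mul' (n - 1)
  have e3 := eta_two_mul' (n - 2)
  have e4 : n % 2 = 0 → eta (n - 1) = n - 1 := fun h => eta_odd (by omega)
  have e5 : n % 2 = 1 → eta (n - 2) = n - 2 := fun h => eta_odd (by omega)
  have hl2 := eta_ge hl3
  have hl' : eta l ≤ n := by
    rcases hl with h | h
    · omega
    · rw [h, e1]
  have hd : OddMul l j := by
    by_contra h1
    refine hna ⟨Or.inl ?_, h1, om_self hlj ?_⟩
    · rcases hj with ⟨-, h⟩ | ⟨-, h⟩ <;> rw [h] <;> omega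
    · rcases hj with ⟨-, h⟩ | ⟨-, h⟩ <;> rw [h] <;> omega
  obtain ⟨k, hk, hk3, hjk, hek, h3⟩ := om_three (by omega) hlj hd
  have hpar := par_mul (l := l) hk
  have hb : ∀ c, n ≤ eta c + 2 → eta c + 1 ≤ n → Big (.ominus n) c := fun c h1 h2 =>
    ⟨by rcases eta_cases c with h | h <;> omega, Or.inl h2, show n < 2 * eta c by omega⟩
  have hbn : Big (.ominus n) (2 * n) := ⟨by omega, Or.inr rfl, show n < 2 * eta (2 * n) by omega⟩
  obtain ⟨a, ha⟩ : ∃ a, l = 2 * a := ⟨l / 2, by omega⟩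
  have e6 := eta_two_mul' a
  rw [← ha] at e6
  rw [e6] at hek h3
  have hapar := par_mul (l := a) hk
  rcases hj with ⟨h', h⟩ | ⟨h', h⟩
  · rw [h, e2] at hek h3
    have n1 : na (.ominus n) l (2 * n) := by
      refine ⟨by omega, ?_, not_om_eta (by omega)⟩
      rw [ha]
      apply not_om_two
      intro h5
      have h6 : a ∣ n - 1 := ⟨k, hek⟩
      have h7 := Nat.dvd_sub h5 h6
      have := Nat.le_of_dvd (by omega) h7
      omega
    have n2 : na (.ominus n) l (2 * (n - 2)) := by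
      refine ⟨by omega, ?_, not_om_eta (by omega)⟩
      rw [ha]
      refine not_om_two (ndvd_of (e := 1) ?_ (by omega) (by omega))
      rw [show n - 2 + 1 = n - 1 by omega]
      exact ⟨k, hek⟩
    rcases Nat.lt_or_ge 2 a with h4 | h4
    · left
      rcases Nat.mod_two_eq_zero_or_one n with hp | hp
      · have := e4 hp
        exact ⟨2 * n, 2 * (n - 2), n - 1, hbn, hb _ (by omega) (by omega), hb _ (by omega) (by omega), by omega,
          by omega, by omega, by omega, by omega, by omega, n1, n2, by omega, not_om_par (by omega),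
          not_om_eta (by omega)⟩
      · have := e5 hp
        exact ⟨2 * n, 2 * (n - 2), n - 2, hbn, hb _ (by omega) (by omega), hb _ (by omega) (by omega), by omega,
          by omega, by omega, by omega, by omega, by omega, n1, n2, by omega, not_om_par (by omega),
          not_om_eta (by omega)⟩
    · right
      have ha2 : a = 2 := by omega
      subst ha2
      exact ⟨⟨2 * n, 2 * (n - 2), hbn, hb _ (by omega) (by omega), by omega, by omega, by omega, n1, n2⟩, by omega, h,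
        by omega⟩
  · left
    rw [h, e1] at hek h3
    have n1 : na (.ominus n) l (2 * (n - 1)) := by
      refine ⟨by omega, ?_, not_om_eta (by omega)⟩
      rw [ha]
      refine not_om_two (ndvd_of (e := 1) ?_ (by omega) (by omega))
      rw [show n - 1 + 1 = n by omega]
      exact ⟨k, hek⟩
    have n2 : na (.ominus n) l (2 * (n - 2)) := by
      refine ⟨by omega, ?_, not_om_eta (by omega)⟩
      rcases Nat.lt_or_ge 2 a with h4 | h4
      · rw [ha]
        refine not_om_two (ndvd_of (e := 2) ?_ (by omega) (by omega))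
        rw [show n - 2 + 2 = n by omega]
        exact ⟨k, hek⟩
      · have ha2 : a = 2 := by omega
        subst ha2
        rw [ha]
        rintro ⟨k', hk', h5⟩
        omega
    rcases Nat.mod_two_eq_zero_or_one n with hp | hp
    · have := e4 hp
      exact ⟨2 * (n - 1), 2 * (n - 2), n - 1, hb _ (by omega) (by omega), hb _ (by omega) (by omega),
        hb _ (by omega) (by omega), by omega,
        by omega, by omega, by omega, by omega, by omega, n1, n2, by omega, not_om_par (by omega),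
        not_om_eta (by omega)⟩
    · have := e5 hp
      exact ⟨2 * (n - 1), 2 * (n - 2), n - 2, hb _ (by omega) (by omega), hb _ (by omega) (by omega),
        hb _ (by omega) (by omega), by omega,
        by omega, by omega, by omega, by omega, by omega, n1, n2, by omega, not_om_par (by omega),
        not_om_eta (by omega)⟩

/-- **The combinatorial statement.** -/
theorem vok_comb {t : Fam} (h5 : Five t) {i j l : ℕ} (hij : PairOK t i j) (hl3 : 3 ≤ l) (hl : mem t l) (hlj : l ≠ j)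
    (hna : ¬ na t l j) : Tri t j l ∨ (Two t j l ∧ VEx t j l) := by
  cases t with
  | psl n =>
    change 9 ≤ n at h5
    change (i = n ∧ j + 1 = n) ∨ (i + 1 = n ∧ j = n) at hij
    rcases comb_lin (t := .psl n) h5 (fun k => Iff.rfl) (fun a b => Iff.rfl) (by omega) hl3 hl hlj hna with h | h
    · exact Or.inl h
    · exact Or.inr ⟨h.1, Or.inl ⟨⟨n, Or.inl rfl⟩, h.2⟩⟩
  | psu n =>
    change 9 ≤ n at h5
    change (i = n ∧ j + 1 = n) ∨ (i + 1 = n ∧ j = n) at hij
    rcases comb_lin (t := .psu n) h5 (fun k => Iff.rfl) (fun a b => Iff.rfl) (by omega) hl3 hl hlj hna with h | h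
    · exact Or.inl h
    · exact Or.inr ⟨h.1, Or.inl ⟨⟨n, Or.inr rfl⟩, h.2⟩⟩
  | psp n =>
    exact Or.inl (comb_sp (t := .psp n) h5 hij.1 (fun k => Iff.rfl) (fun a b => Iff.rfl) hij.2 hl3 hl hlj hna)
  | oodd n =>
    exact Or.inl (comb_sp (t := .oodd n) h5 hij.1 (fun k => Iff.rfl) (fun a b => Iff.rfl) hij.2 hl3 hl hlj hna)
  | oplus n =>
    rcases hij with ⟨h0, h1⟩ | ⟨h0, h1⟩
    · rcases comb_po h5 h0 h1 hl3 hl hlj hna with h | ⟨a1, a2, a3, a4⟩
      · exact Or.inl h
      · exact Or.inr ⟨a1, Or.inr ⟨⟨n, Or.inl rfl, a2, a3⟩, a4⟩⟩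
    · exact Or.inl (comb_pe h5 h0 h1 hl3 hl hlj hna)
  | ominus n =>
    rcases comb_m h5 hij hl3 hl hlj hna with h | ⟨a1, a2, a3, a4⟩
    · exact Or.inl h
    · exact Or.inr ⟨a1, Or.inr ⟨⟨n, Or.inr rfl, a2, a3⟩, a4⟩⟩
  | _ => exact h5.elim

end Cfsg.Agent.R2.Spec.Gamma
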